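import Mathlib.Algebra.Homology.DerivedCategory.Ext.ExactSequences
import Mathlib.Algebra.Homology.HomologicalComplex
import Mathlib.CategoryTheory.Abelian.Exact

/-! Vanishing of `Ext` through an acyclic resolution. -/

set_option linter.style.haveILetI false

universe w v u

open CategoryTheory CategoryTheory.Limits CategoryTheory.Abelian

namespace GrothLib.GlobDual22

variable {C : Type u} [Category.{v} C] [Abelian C] [HasExt.{w} C] (Z : C)

theorem subsingleton_ext_zero_iff (X : C) : Subsingleton (Ext Z X 0) ↔ ∀ φ : Z ⟶ X, φ = 0 :=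
  ⟨fun h φ => (Ext.mk₀_bijective _ _).1 (Subsingleton.elim (h := h) _ _), fun h => subsingleton_of_forall_eq 0 fun x => by
    obtain ⟨φ, rfl⟩ := (Ext.mk₀_bijective _ _).2 x
    rw [h φ, Ext.mk₀_zero]⟩

variable {S : ShortComplex C} (hS : S.ShortExact) (hJ : ∀ i : ℕ, Subsingleton (Ext Z S.X₂ (i + 1)))

include hS hJ in
theorem subsingleton_ext_succ_iff (i : ℕ) :
    Subsingleton (Ext Z S.X₁ (i + 2)) ↔ Subsingleton (Ext Z S.X₃ (i + 1)) := by
  constructor
  · intro h
    refine subsingleton_of_forall_eq 0 fun x => ?_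
    obtain ⟨z, hz⟩ := Ext.covariant_sequence_exact₃ _ hS x rfl (Subsingleton.elim (h := h) _ 0)
    rw [← hz, Subsingleton.elim (h := hJ i) z 0, Ext.zero_comp]
  · intro h
    refine subsingleton_of_forall_eq 0 fun x => ?_
    obtain ⟨z, hz⟩ := Ext.covariant_sequence_exact₁ _ hS x (Subsingleton.elim (h := hJ (i + 1)) _ 0) (rfl : i + 1 + 1 = i + 2)
    rw [← hz, Subsingleton.elim (h := h) z 0, Ext.zero_comp]

include hS hJ in
theorem subsingleton_ext_one_iff :
    Subsingleton (Ext Z S.X₁ 1) ↔ ∀ φ : Z ⟶ S.X₃, ∃ ψ, ψ ≫ S.g = φ := by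
  constructor
  · intro h φ
    obtain ⟨z, hz⟩ := Ext.covariant_sequence_exact₃ _ hS (Ext.mk₀ φ) (rfl : 0 + 1 = 1)
      (Subsingleton.elim (h := h) _ 0)
    obtain ⟨ψ, rfl⟩ := (Ext.mk₀_bijective _ _).2 z
    rw [Ext.mk₀_comp_mk₀] at hz
    exact ⟨ψ, (Ext.mk₀_bijective _ _).1 hz⟩
  · intro h
    refine subsingleton_of_forall_eq 0 fun x => ?_
    obtain ⟨z, hz⟩ := Ext.covariant_sequence_exact₁ _ hS x (Subsingleton.elim (h := hJ 0) _ 0) (rfl : 0 + 1 = 1)
    obtain ⟨φ, rfl⟩ := (Ext.mk₀_bijective _ _).2 z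
    obtain ⟨ψ, rfl⟩ := h φ
    rw [← hz, ← Ext.mk₀_comp_mk₀, Ext.comp_assoc_of_second_deg_zero, hS.comp_extClass, Ext.comp_zero]

omit hS hJ

/-- An acyclic resolution computes the vanishing of `Ext(Z, F)`. -/
theorem subsingleton_ext_iff_cocycles {F : C} (J : ℕ → C) (d : ∀ p, J p ⟶ J (p + 1)) (e : F ⟶ J 0) [Mono e]
    (hw : ∀ p, d p ≫ d (p + 1) = 0) (hew : e ≫ d 0 = 0)
    (he : (ShortComplex.mk e (d 0) hew).Exact) (hd : ∀ p, (ShortComplex.mk (d p) (d (p + 1)) (hw p)).Exact)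
    (hJ : ∀ p i : ℕ, Subsingleton (Ext Z (J p) (i + 1))) :
    (Subsingleton (Ext Z F 0) ↔ ∀ φ : Z ⟶ J 0, φ ≫ d 0 = 0 → φ = 0) ∧
      ∀ p, Subsingleton (Ext Z F (p + 1)) ↔
        ∀ φ : Z ⟶ J (p + 1), φ ≫ d (p + 1) = 0 → ∃ ψ : Z ⟶ J p, ψ ≫ d p = φ := by
  constructor
  · rw [subsingleton_ext_zero_iff]
    refine ⟨fun h φ hφ => ?_, fun h φ => ?_⟩
    · haveI : Mono (ShortComplex.mk e (d 0) hew).f := ‹_›
      rw [← he.lift_f φ hφ, h (he.lift φ hφ)]
      exact zero_comp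
    · rw [← cancel_mono e, zero_comp]
      exact h _ (by rw [Category.assoc, hew, comp_zero])
  intro p
  induction p generalizing F J with
  | zero =>
    let q : J 0 ⟶ cokernel e := cokernel.π e
    have hS : (ShortComplex.mk e q (cokernel.condition e)).ShortExact := { exact := ShortComplex.exact_cokernel e }
    let m : cokernel e ⟶ J 1 := cokernel.desc e (d 0) hew
    haveI : Mono m := (ShortComplex.exact_iff_mono_cokernel_desc _).1 he
    have hmd : m ≫ d 1 = 0 := by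
      rw [← cancel_epi q, comp_zero, ← Category.assoc, cokernel.π_desc, hw 0]
    have hm : (ShortComplex.mk m (d 1) hmd).Exact := by
      let α : ShortComplex.mk (d 0) (d 1) (hw 0) ⟶ ShortComplex.mk m (d 1) hmd :=
        { τ₁ := q, τ₂ := 𝟙 _, τ₃ := 𝟙 _
          comm₁₂ := by simp [q, m]
          comm₂₃ := by simp }
      haveI : Epi α.τ₁ := inferInstanceAs (Epi q)
      haveI : IsIso α.τ₂ := inferInstanceAs (IsIso (𝟙 _))
      haveI : Mono α.τ₃ := inferInstanceAs (Mono (𝟙 _))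
      exact (ShortComplex.exact_iff_of_epi_of_isIso_of_mono α).1 (hd 0)
    rw [subsingleton_ext_one_iff Z hS (hJ 0)]
    refine ⟨fun h φ hφ => ?_, fun h φ => ?_⟩
    · haveI : Mono (ShortComplex.mk m (d 1) hmd).f := ‹_›
      obtain ⟨ψ, hψ⟩ := h (hm.lift φ hφ)
      refine ⟨ψ, ?_⟩
      rw [← hm.lift_f φ hφ, ← hψ, Category.assoc]
      simp [q, m]
    · obtain ⟨ψ, hψ⟩ := h (φ ≫ m) (by rw [Category.assoc, hmd, comp_zero])
      refine ⟨ψ, ?_⟩
      rw [← cancel_mono m, Category.assoc, cokernel.π_desc, hψ]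
  | succ p ih =>
    let q : J 0 ⟶ cokernel e := cokernel.π e
    have hS : (ShortComplex.mk e q (cokernel.condition e)).ShortExact := { exact := ShortComplex.exact_cokernel e }
    let m : cokernel e ⟶ J 1 := cokernel.desc e (d 0) hew
    haveI : Mono m := (ShortComplex.exact_iff_mono_cokernel_desc _).1 he
    have hmd : m ≫ d 1 = 0 := by
      rw [← cancel_epi q, comp_zero, ← Category.assoc, cokernel.π_desc, hw 0]
    have hm : (ShortComplex.mk m (d 1) hmd).Exact := by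
      let α : ShortComplex.mk (d 0) (d 1) (hw 0) ⟶ ShortComplex.mk m (d 1) hmd :=
        { τ₁ := q, τ₂ := 𝟙 _, τ₃ := 𝟙 _
          comm₁₂ := by simp [q, m]
          comm₂₃ := by simp }
      haveI : Epi α.τ₁ := inferInstanceAs (Epi q)
      haveI : IsIso α.τ₂ := inferInstanceAs (IsIso (𝟙 _))
      haveI : Mono α.τ₃ := inferInstanceAs (Mono (𝟙 _))
      exact (ShortComplex.exact_iff_of_epi_of_isIso_of_mono α).1 (hd 0)
    rw [subsingleton_ext_succ_iff Z hS (hJ 0) p]
    exact ih (fun q => J (q + 1)) (fun q => d (q + 1)) m (fun q => hw (q + 1)) hmd hm (fun q => hd (q + 1))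
      (fun q => hJ (q + 1))

end GrothLib.GlobDual22
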