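import Groth.Agent.Lib.GlobDual22.Acyc
import Mathlib.GroupTheory.QuotientGroup.Basic

/-! `Ext(Z, F)` from the cocycles of an acyclic resolution. -/

set_option linter.style.haveILetI false

universe w v u

open CategoryTheory CategoryTheory.Limits CategoryTheory.Abelian

namespace GrothLib.GlobDual22

variable {C : Type u} [Category.{v} C] [Abelian C] [HasExt.{w} C] (Z : C)

/-- Maps out of `Z` killed by `g`. -/
def cocyc {A B : C} (g : A ⟶ B) : AddSubgroup (Z ⟶ A) where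
  carrier := {φ | φ ≫ g = 0}
  add_mem' {a b} ha hb := by
    show (a + b) ≫ g = 0
    rw [Preadditive.add_comp, ha, hb, add_zero]
  zero_mem' := zero_comp
  neg_mem' {a} ha := by
    show (-a) ≫ g = 0
    rw [Preadditive.neg_comp, ha, neg_zero]

variable {Z}

theorem exists_hom_cocycles_zero {F J₀ J₁ : C} (d : J₀ ⟶ J₁) (e : F ⟶ J₀) [Mono e] (hew : e ≫ d = 0)
    (he : (ShortComplex.mk e d hew).Exact) :
    ∃ π : cocyc Z d →+ Ext Z F 0, Function.Surjective π ∧ (∀ φ, π φ = 0 ↔ φ.1 = 0) ∧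
      ∀ (g : Z ⟶ F) (φ : cocyc Z d), φ.1 = g ≫ e → π φ = Ext.mk₀ g := by
  haveI : Mono (ShortComplex.mk e d hew).f := ‹_›
  refine ⟨AddMonoidHom.mk' (fun φ => Ext.mk₀ (he.lift φ.1 φ.2)) (fun a b => ?_), fun x => ?_, fun φ => ?_, fun g φ hg => congrArg Ext.mk₀ ?_⟩
  · rw [← Ext.mk₀_add]
    congr 1
    rw [← cancel_mono e, Preadditive.add_comp]
    exact (he.lift_f _ _).trans (congrArg₂ (· + ·) (he.lift_f _ _).symm (he.lift_f _ _).symm)
  · obtain ⟨g, rfl⟩ := (Ext.mk₀_bijective _ _).2 x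
    refine ⟨⟨g ≫ e, show (g ≫ e) ≫ d = 0 by rw [Category.assoc, hew, comp_zero]⟩, congrArg Ext.mk₀ ?_⟩
    rw [← cancel_mono e]
    exact he.lift_f _ _
  · refine ⟨fun h => ?_, fun h => ?_⟩
    · have h' : he.lift φ.1 φ.2 = 0 := (Ext.mk₀_bijective _ _).1 ((show Ext.mk₀ _ = 0 from h).trans (Ext.mk₀_zero _ _).symm)
      rw [← he.lift_f φ.1 φ.2, h', zero_comp]
    · refine (congrArg Ext.mk₀ ?_).trans (Ext.mk₀_zero _ _)
      rw [← cancel_mono e, zero_comp]
      exact (he.lift_f _ _).trans h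
  · rw [← cancel_mono e]
    exact (he.lift_f _ _).trans hg

theorem exists_hom_cocycles {F : C} (J : ℕ → C) (d : ∀ p, J p ⟶ J (p + 1)) (e : F ⟶ J 0) [Mono e]
    (hw : ∀ p, d p ≫ d (p + 1) = 0) (hew : e ≫ d 0 = 0)
    (he : (ShortComplex.mk e (d 0) hew).Exact) (hd : ∀ p, (ShortComplex.mk (d p) (d (p + 1)) (hw p)).Exact)
    (hJ : ∀ p i : ℕ, Subsingleton (Ext Z (J p) (i + 1))) :
    ∀ p, ∃ π : cocyc Z (d (p + 1)) →+ Ext Z F (p + 1), Function.Surjective π ∧
      ∀ φ, π φ = 0 ↔ ∃ ψ : Z ⟶ J p, ψ ≫ d p = φ.1 := by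
  intro p
  induction p generalizing F J with
  | zero =>
    let q : J 0 ⟶ cokernel e := cokernel.π e
    have hS : (ShortComplex.mk e q (cokernel.condition e)).ShortExact := { exact := ShortComplex.exact_cokernel e }
    let m : cokernel e ⟶ J 1 := cokernel.desc e (d 0) hew
    haveI : Mono m := (ShortComplex.exact_iff_mono_cokernel_desc _).1 he
    have hmd : m ≫ d 1 = 0 := by
      rw [← cancel_epi q, comp_zero, ← Category.assoc, cokernel.π_desc, hw 0]
    have hm : (ShortComplex.mk m (d 1) hmd).Exact := by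
      let α : ShortComplex.mk (d 0) (d 1) (hw 0) ⟶ ShortComplex.mk m (d 1) hmd :=
        { τ₁ := q, τ₂ := 𝟙 _, τ₃ := 𝟙 _
          comm₁₂ := by simp [q, m]
          comm₂₃ := by simp }
      haveI : Epi α.τ₁ := inferInstanceAs (Epi q)
      haveI : IsIso α.τ₂ := inferInstanceAs (IsIso (𝟙 _))
      haveI : Mono α.τ₃ := inferInstanceAs (Mono (𝟙 _))
      exact (ShortComplex.exact_iff_of_epi_of_isIso_of_mono α).1 (hd 0)
    obtain ⟨π, hπ, hker, hπm⟩ := exists_hom_cocycles_zero (Z := Z) (d 1) m hmd hm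
    have hqm : ∀ ψ : Z ⟶ J 0, (ψ ≫ q) ≫ m = ψ ≫ d 0 := fun ψ => by simp [q, m]
    refine ⟨AddMonoidHom.mk' (fun φ => (π φ).comp hS.extClass (zero_add 1))
      (fun a b => by simp only [map_add, Ext.add_comp]), fun x => ?_, fun φ => ⟨fun h => ?_, ?_⟩⟩
    · obtain ⟨z, hz⟩ := Ext.covariant_sequence_exact₁ _ hS x (Subsingleton.elim (h := hJ 0 0) _ 0) (rfl : 0 + 1 = 1)
      obtain ⟨φ, rfl⟩ := hπ z
      exact ⟨φ, hz⟩
    · obtain ⟨z, hz⟩ := Ext.covariant_sequence_exact₃ _ hS (π φ) (rfl : 0 + 1 = 1) h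
      obtain ⟨ψ, rfl⟩ := (Ext.mk₀_bijective _ _).2 z
      rw [Ext.mk₀_comp_mk₀] at hz
      let φ₀ : cocyc Z (d 1) := ⟨ψ ≫ d 0, show (ψ ≫ d 0) ≫ d 1 = 0 by rw [Category.assoc, hw 0, comp_zero]⟩
      have h2 : π (φ - φ₀) = 0 := by
        rw [map_sub, ← hz, hπm (ψ ≫ q) φ₀ (hqm ψ).symm, sub_self]
      exact ⟨ψ, (sub_eq_zero.1 ((hker _).1 h2)).symm⟩
    · rintro ⟨ψ, hψ⟩
      show (π φ).comp hS.extClass (zero_add 1) = 0
      rw [hπm (ψ ≫ q) φ (hψ.symm.trans (hqm ψ).symm), ← Ext.mk₀_comp_mk₀, Ext.comp_assoc_of_second_deg_zero]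
      erw [hS.comp_extClass, Ext.comp_zero]
  | succ p ih =>
    let q : J 0 ⟶ cokernel e := cokernel.π e
    have hS : (ShortComplex.mk e q (cokernel.condition e)).ShortExact := { exact := ShortComplex.exact_cokernel e }
    let m : cokernel e ⟶ J 1 := cokernel.desc e (d 0) hew
    haveI : Mono m := (ShortComplex.exact_iff_mono_cokernel_desc _).1 he
    have hmd : m ≫ d 1 = 0 := by
      rw [← cancel_epi q, comp_zero, ← Category.assoc, cokernel.π_desc, hw 0]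
    have hm : (ShortComplex.mk m (d 1) hmd).Exact := by
      let α : ShortComplex.mk (d 0) (d 1) (hw 0) ⟶ ShortComplex.mk m (d 1) hmd :=
        { τ₁ := q, τ₂ := 𝟙 _, τ₃ := 𝟙 _
          comm₁₂ := by simp [q, m]
          comm₂₃ := by simp }
      haveI : Epi α.τ₁ := inferInstanceAs (Epi q)
      haveI : IsIso α.τ₂ := inferInstanceAs (IsIso (𝟙 _))
      haveI : Mono α.τ₃ := inferInstanceAs (Mono (𝟙 _))
      exact (ShortComplex.exact_iff_of_epi_of_isIso_of_mono α).1 (hd 0)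
    obtain ⟨π, hπ, hker⟩ := ih (fun q => J (q + 1)) (fun q => d (q + 1)) m (fun q => hw (q + 1)) hmd hm
      (fun q => hd (q + 1)) (fun q => hJ (q + 1))
    refine ⟨AddMonoidHom.mk' (fun φ => (π φ).comp hS.extClass (rfl : p + 1 + 1 = p + 1 + 1))
      (fun a b => by simp only [map_add, Ext.add_comp]), fun x => ?_, fun φ => ?_⟩
    · obtain ⟨z, hz⟩ := Ext.covariant_sequence_exact₁ _ hS x (Subsingleton.elim (h := hJ 0 (p + 1)) _ 0) (rfl : p + 1 + 1 = p + 1 + 1)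
      obtain ⟨φ, rfl⟩ := hπ z
      exact ⟨φ, hz⟩
    · refine Iff.trans ⟨fun h => ?_, fun h => ?_⟩ (hker φ)
      · obtain ⟨z, hz⟩ := Ext.covariant_sequence_exact₃ _ hS (π φ) (rfl : p + 1 + 1 = p + 1 + 1) h
        rw [← hz, Subsingleton.elim (h := hJ 0 p) z 0, Ext.zero_comp]
      · show (π φ).comp hS.extClass (rfl : p + 1 + 1 = p + 1 + 1) = 0
        rw [h, Ext.zero_comp]

/-- Two surjections with the same kernel. -/
theorem nonempty_addEquiv_of_ker {A B B' : Type*} [AddCommGroup A] [AddCommGroup B] [AddCommGroup B'] (f : A →+ B)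
    (g : A →+ B') (hf : Function.Surjective f) (hg : Function.Surjective g) (h : ∀ a, f a = 0 ↔ g a = 0) :
    Nonempty (B ≃+ B') :=
  ⟨(QuotientAddGroup.quotientKerEquivOfSurjective f hf).symm.trans
    ((QuotientAddGroup.quotientAddEquivOfEq (AddSubgroup.ext h : f.ker = g.ker)).trans
      (QuotientAddGroup.quotientKerEquivOfSurjective g hg))⟩

end GrothLib.GlobDual22
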