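import Groth.Agent.Lib.GlobDual22.AcycEquiv
import Groth.Agent.Lib.RGamma.Classes

/-! `Ext(Z, F)` as the homology of a complex of modules representing maps into an acyclic resolution. -/

set_option linter.style.haveILetI false

universe w v u t

open CategoryTheory CategoryTheory.Limits CategoryTheory.Abelian

namespace GrothLib.GlobDual22

variable {C : Type u} [Category.{v} C] [Abelian C] [HasExt.{w} C] {R : Type t} [CommRing R]

theorem nonempty_ext_equiv_homology (Z : C) {F : C} (J : ℕ → C) (d : ∀ p, J p ⟶ J (p + 1)) (e : F ⟶ J 0) [Mono e]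
    (hw : ∀ p, d p ≫ d (p + 1) = 0) (hew : e ≫ d 0 = 0)
    (he : (ShortComplex.mk e (d 0) hew).Exact) (hd : ∀ p, (ShortComplex.mk (d p) (d (p + 1)) (hw p)).Exact)
    (hJ : ∀ p i : ℕ, Subsingleton (Ext Z (J p) (i + 1)))
    (G : CochainComplex (ModuleCat.{t} R) ℤ) (hG : Subsingleton (G.X (-1)))
    (τ : ∀ p : ℕ, (Z ⟶ J p) ≃+ G.X (p : ℤ))
    (hτ : ∀ (p : ℕ) (φ : Z ⟶ J p), τ (p + 1) (φ ≫ d p) = G.d (p : ℤ) ((p + 1 : ℕ) : ℤ) (τ p φ)) (i : ℕ) :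
    Nonempty (Ext Z F i ≃+ G.homology (i : ℤ)) := by
  have hdd : ∀ (p : ℕ) (x : G.X (p : ℤ)), G.d (p : ℤ) ((p : ℤ) + 1) x = 0 ↔ G.d (p : ℤ) ((p + 1 : ℕ) : ℤ) x = 0 :=
    fun p x => Iff.rfl
  have hcyc : ∀ (p : ℕ) (φ : cocyc Z (d p)), G.d (p : ℤ) ((p : ℤ) + 1) (τ p φ.1) = 0 := fun p φ =>
    (hdd p _).2 ((hτ p φ.1).symm.trans ((congrArg (τ (p + 1)) φ.2).trans (map_zero _)))
  let γ : ∀ p : ℕ, cocyc Z (d p) →+ G.homology (p : ℤ) := fun p => AddMonoidHom.mk'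
    (fun φ => RGamma.cls (p : ℤ) (τ p φ.1) (hcyc p φ))
    (fun a b => (RGamma.cls_congr (map_add (τ p) a.1 b.1) (hcyc p (a + b))).trans (RGamma.cls_add _ _ (hcyc p a) (hcyc p b)))
  have hγ : ∀ p, Function.Surjective (γ p) := fun p c => by
    obtain ⟨x, hx, rfl⟩ := RGamma.cls_surjective (K := G) (p : ℤ) c
    obtain ⟨φ, rfl⟩ := (τ p).surjective x
    exact ⟨⟨φ, (τ (p + 1)).injective ((hτ p φ).trans (((hdd p _).1 hx).trans (map_zero (τ (p + 1))).symm))⟩, rfl⟩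
  cases i with
  | zero =>
    obtain ⟨π0, hπ0, hk0, -⟩ := exists_hom_cocycles_zero (Z := Z) (d 0) e hew he
    refine nonempty_addEquiv_of_ker π0 (γ 0) hπ0 (hγ 0) fun φ => (hk0 φ).trans ?_
    refine Iff.trans ?_ (RGamma.cls_eq_zero_iff (K := G) (show (-1 : ℤ) + 1 = ((0 : ℕ) : ℤ) by norm_num) _ (hcyc 0 φ)).symm
    refine ⟨fun h => ⟨0, (map_zero _).trans ((congrArg (τ 0) h).trans (map_zero _)).symm⟩, fun ⟨w, hw⟩ => ?_⟩
    refine (τ 0).injective (hw.symm.trans ?_)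
    rw [show w = 0 from @Subsingleton.elim _ hG w 0, map_zero, map_zero]
  | succ p =>
    obtain ⟨π, hπ, hk⟩ := exists_hom_cocycles (Z := Z) J d e hw hew he hd hJ p
    refine nonempty_addEquiv_of_ker π (γ (p + 1)) hπ (hγ (p + 1)) fun φ => (hk φ).trans ?_
    refine Iff.trans ?_ (RGamma.cls_eq_zero_iff (K := G) (show (p : ℤ) + 1 = ((p + 1 : ℕ) : ℤ) by push_cast; ring) _ (hcyc (p + 1) φ)).symm
    refine ⟨fun ⟨ψ, hψ⟩ => ⟨τ p ψ, (hτ p ψ).symm.trans (congrArg (τ (p + 1)) hψ)⟩, fun ⟨w, hw⟩ => ?_⟩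
    obtain ⟨ψ, rfl⟩ := (τ p).surjective w
    exact ⟨ψ, (τ (p + 1)).injective ((hτ p ψ).trans hw)⟩

end GrothLib.GlobDual22
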