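import Groth.Agent.Lib.GlobDual22.AcycPair

/-! Surjectivity on `Ext(Z, -)` read off from complexes representing maps into acyclic resolutions. -/

set_option linter.style.haveILetI false
set_option maxHeartbeats 1600000

universe w v u t

open CategoryTheory CategoryTheory.Limits CategoryTheory.Abelian

namespace GrothLib.GlobDual22

theorem surjective_iff_of_ker {A A' B B' C C' : Type*} [AddCommGroup A] [AddCommGroup A'] [AddCommGroup B]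
    [AddCommGroup B'] [AddCommGroup C] [AddCommGroup C'] (m : A → A') (f : A →+ B) (f' : A' →+ B') (g : A →+ C)
    (g' : A' →+ C') (hf : Function.Surjective f) (hg : Function.Surjective g) (hf' : Function.Surjective f')
    (hg' : Function.Surjective g') (h : ∀ a, f' a = 0 ↔ g' a = 0) (u : B → B') (v : C → C')
    (hu : ∀ a, f' (m a) = u (f a)) (hv : ∀ a, g' (m a) = v (g a)) : Function.Surjective u ↔ Function.Surjective v := by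
  have e : ∀ a a', f' a = f' a' ↔ g' a = g' a' := fun a a' => by
    rw [← sub_eq_zero, ← map_sub, h, map_sub, sub_eq_zero]
  constructor
  · intro hs y
    obtain ⟨a', rfl⟩ := hg' y
    obtain ⟨b, hb⟩ := hs (f' a')
    obtain ⟨a, rfl⟩ := hf b
    exact ⟨g a, (hv a).symm.trans ((e _ _).1 ((hu a).trans hb))⟩
  · intro hs y
    obtain ⟨a', rfl⟩ := hf' y
    obtain ⟨c, hc⟩ := hs (g' a')
    obtain ⟨a, rfl⟩ := hg c
    exact ⟨f a, (hu a).symm.trans ((e _ _).2 ((hv a).trans hc))⟩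

variable {C : Type u} [Category.{v} C] [Abelian C] [HasExt.{w} C] {R : Type t} [CommRing R] {Z : C}

theorem exists_cls_hom (J : ℕ → C) (d : ∀ p, J p ⟶ J (p + 1)) (G : CochainComplex (ModuleCat.{t} R) ℤ)
    (τ : ∀ p : ℕ, (Z ⟶ J p) ≃+ G.X (p : ℤ))
    (hτ : ∀ (p : ℕ) (φ : Z ⟶ J p), τ (p + 1) (φ ≫ d p) = G.d (p : ℤ) ((p + 1 : ℕ) : ℤ) (τ p φ)) (p : ℕ) :
    ∃ γ : cocyc Z (d p) →+ G.homology (p : ℤ), Function.Surjective γ ∧
      (∀ φ, γ φ = 0 ↔ ∃ w : G.X ((p : ℤ) - 1), G.d ((p : ℤ) - 1) (p : ℤ) w = τ p φ.1) ∧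
      ∀ φ, ∃ hx, γ φ = RGamma.cls (p : ℤ) (τ p φ.1) hx := by
  have hdd : ∀ (x : G.X (p : ℤ)), G.d (p : ℤ) ((p : ℤ) + 1) x = 0 ↔ G.d (p : ℤ) ((p + 1 : ℕ) : ℤ) x = 0 :=
    fun x => Iff.rfl
  have hcyc : ∀ φ : cocyc Z (d p), G.d (p : ℤ) ((p : ℤ) + 1) (τ p φ.1) = 0 := fun φ =>
    (hdd _).2 ((hτ p φ.1).symm.trans ((congrArg (τ (p + 1)) φ.2).trans (map_zero _)))
  refine ⟨AddMonoidHom.mk' (fun φ => RGamma.cls (p : ℤ) (τ p φ.1) (hcyc φ))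
    (fun a b => (RGamma.cls_congr (map_add (τ p) a.1 b.1) (hcyc (a + b))).trans (RGamma.cls_add _ _ (hcyc a) (hcyc b))),
    fun c => ?_, fun φ => RGamma.cls_eq_zero_iff (by omega) _ (hcyc φ), fun φ => ⟨hcyc φ, rfl⟩⟩
  obtain ⟨x, hx, rfl⟩ := RGamma.cls_surjective (K := G) (p : ℤ) c
  obtain ⟨φ, rfl⟩ := (τ p).surjective x
  exact ⟨⟨φ, (τ (p + 1)).injective ((hτ p φ).trans (((hdd _).1 hx).trans (map_zero (τ (p + 1))).symm))⟩, rfl⟩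

theorem surjective_ext_iff_homology {F F' : C} (a : F ⟶ F') (J J' : ℕ → C) (d : ∀ p, J p ⟶ J (p + 1))
    (d' : ∀ p, J' p ⟶ J' (p + 1)) (b : ∀ p, J p ⟶ J' p) (hb : ∀ p, d p ≫ b (p + 1) = b p ≫ d' p)
    (e : F ⟶ J 0) [Mono e] (e' : F' ⟶ J' 0) [Mono e'] (hab : a ≫ e' = e ≫ b 0)
    (hw : ∀ p, d p ≫ d (p + 1) = 0) (hw' : ∀ p, d' p ≫ d' (p + 1) = 0)
    (hew : e ≫ d 0 = 0) (hew' : e' ≫ d' 0 = 0)
    (he : (ShortComplex.mk e (d 0) hew).Exact) (he' : (ShortComplex.mk e' (d' 0) hew').Exact)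
    (hd : ∀ p, (ShortComplex.mk (d p) (d (p + 1)) (hw p)).Exact)
    (hd' : ∀ p, (ShortComplex.mk (d' p) (d' (p + 1)) (hw' p)).Exact)
    (hJ : ∀ p i : ℕ, Subsingleton (Ext Z (J p) (i + 1))) (hJ' : ∀ p i : ℕ, Subsingleton (Ext Z (J' p) (i + 1)))
    (G G' : CochainComplex (ModuleCat.{t} R) ℤ) (hG : Subsingleton (G.X (-1))) (hG' : Subsingleton (G'.X (-1)))
    (τ : ∀ p : ℕ, (Z ⟶ J p) ≃+ G.X (p : ℤ)) (τ' : ∀ p : ℕ, (Z ⟶ J' p) ≃+ G'.X (p : ℤ))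
    (hτ : ∀ (p : ℕ) (φ : Z ⟶ J p), τ (p + 1) (φ ≫ d p) = G.d (p : ℤ) ((p + 1 : ℕ) : ℤ) (τ p φ))
    (hτ' : ∀ (p : ℕ) (φ : Z ⟶ J' p), τ' (p + 1) (φ ≫ d' p) = G'.d (p : ℤ) ((p + 1 : ℕ) : ℤ) (τ' p φ))
    (g : G ⟶ G') (hg : ∀ (p : ℕ) (φ : Z ⟶ J p), τ' p (φ ≫ b p) = g.f (p : ℤ) (τ p φ)) (i : ℕ) :
    Function.Surjective (fun x : Ext Z F i => x.comp (Ext.mk₀ a) (add_zero i)) ↔
      Function.Surjective (HomologicalComplex.homologyMap g (i : ℤ)) := by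
  let m : ∀ p, cocyc Z (d p) → cocyc Z (d' p) := fun p φ => ⟨φ.1 ≫ b p, show (φ.1 ≫ b p) ≫ d' p = 0 by
    rw [Category.assoc, ← hb, ← Category.assoc, show φ.1 ≫ d p = 0 from φ.2, zero_comp]⟩
  obtain ⟨γ, hγ, -, hγv⟩ := exists_cls_hom J d G τ hτ i
  obtain ⟨γ', hγ', hk', hγv'⟩ := exists_cls_hom J' d' G' τ' hτ' i
  have hv : ∀ φ, γ' (m i φ) = HomologicalComplex.homologyMap g (i : ℤ) (γ φ) := fun φ => by
    obtain ⟨_, e1⟩ := hγv φ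
    obtain ⟨_, e2⟩ := hγv' (m i φ)
    rw [e1, e2, RGamma.cls_map]
    exact RGamma.cls_congr (hg i φ.1) _
  cases i with
  | zero =>
    obtain ⟨π, hπ, -, hπm⟩ := exists_hom_cocycles_zero (Z := Z) (d 0) e hew he
    obtain ⟨π', hπ', hk0', hπm'⟩ := exists_hom_cocycles_zero (Z := Z) (d' 0) e' hew' he'
    refine surjective_iff_of_ker (m 0) π π' γ γ' hπ hγ hπ' hγ' (fun φ => (hk0' φ).trans (Iff.trans ?_ (hk' φ).symm)) _ _
      (fun φ => ?_) hv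
    · have hs : Subsingleton (G'.X ((((0 : ℕ) : ℤ)) - 1)) := hG'
      refine ⟨fun h => ⟨0, (map_zero _).trans ((congrArg (τ' 0) h).trans (map_zero _)).symm⟩, fun ⟨w, hw⟩ => ?_⟩
      refine (τ' 0).injective (hw.symm.trans ?_)
      rw [show w = 0 from @Subsingleton.elim _ hs w 0, map_zero, map_zero]
    · have e1 : φ.1 = he.lift φ.1 φ.2 ≫ e := (he.lift_f _ _).symm
      show π' (m 0 φ) = (π φ).comp (Ext.mk₀ a) (add_zero 0)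
      rw [hπm _ φ e1, hπm' (he.lift φ.1 φ.2 ≫ a) (m 0 φ) (by rw [Category.assoc, hab, ← Category.assoc, ← e1]),
        Ext.mk₀_comp_mk₀]
  | succ p =>
    obtain ⟨π, π', ⟨hπ, -⟩, ⟨hπ', hk1⟩, hc⟩ := exists_hom_cocycles_pair (Z := Z) a J J' d d' b hb e e' hab hw hw' hew hew'
      he he' hd hd' hJ hJ' p
    refine surjective_iff_of_ker (m (p + 1)) π π' γ γ' hπ hγ hπ' hγ' (fun φ => (hk1 φ).trans (Iff.trans ?_ (hk' φ).symm)) _ _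
      (fun φ => hc φ (m (p + 1) φ) rfl) hv
    have key : ∀ q : ℤ, q = (p : ℤ) → ((∃ w : G'.X (p : ℤ), G'.d (p : ℤ) ((p + 1 : ℕ) : ℤ) w = τ' (p + 1) φ.1) ↔
        ∃ w : G'.X q, G'.d q ((p + 1 : ℕ) : ℤ) w = τ' (p + 1) φ.1) := fun q hq => by subst hq; rfl
    refine Iff.trans ?_ (key _ (by push_cast; ring))
    refine ⟨fun ⟨ψ, hψ⟩ => ⟨τ' p ψ, (hτ' p ψ).symm.trans (congrArg (τ' (p + 1)) hψ)⟩, fun ⟨w, hw⟩ => ?_⟩
    obtain ⟨ψ, rfl⟩ := (τ' p).surjective w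
    exact ⟨ψ, (τ' (p + 1)).injective ((hτ' p ψ).trans hw)⟩

end GrothLib.GlobDual22
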