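import Groth.Agent.Lib.GlobDual22.AcycHom

/-! Naturality of `Ext(Z, F)` computed by acyclic resolutions. -/

set_option linter.style.haveILetI false
set_option maxHeartbeats 1600000

universe w v u t

open CategoryTheory CategoryTheory.Limits CategoryTheory.Abelian

namespace GrothLib.GlobDual22

variable {C : Type u} [Category.{v} C] [Abelian C] [HasExt.{w} C] {Z : C}

/-- The cokernel resolves. -/
theorem coker_res {F J₀ J₁ J₂ : C} (d₀ : J₀ ⟶ J₁) (d₁ : J₁ ⟶ J₂) (e : F ⟶ J₀) [Mono e] (hw : d₀ ≫ d₁ = 0)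
    (hew : e ≫ d₀ = 0) (he : (ShortComplex.mk e d₀ hew).Exact) (hd : (ShortComplex.mk d₀ d₁ hw).Exact) :
    Mono (cokernel.desc e d₀ hew) ∧ ∃ hmd : cokernel.desc e d₀ hew ≫ d₁ = 0,
      (ShortComplex.mk (cokernel.desc e d₀ hew) d₁ hmd).Exact := by
  let q := cokernel.π e
  haveI : Mono (cokernel.desc e d₀ hew) := (ShortComplex.exact_iff_mono_cokernel_desc _).1 he
  have hmd : cokernel.desc e d₀ hew ≫ d₁ = 0 := by
    rw [← cancel_epi q, comp_zero, ← Category.assoc, cokernel.π_desc, hw]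
  refine ⟨inferInstance, hmd, ?_⟩
  let α : ShortComplex.mk d₀ d₁ hw ⟶ ShortComplex.mk (cokernel.desc e d₀ hew) d₁ hmd :=
    { τ₁ := q, τ₂ := 𝟙 _, τ₃ := 𝟙 _
      comm₁₂ := by simp [q]
      comm₂₃ := by simp }
  haveI : Epi α.τ₁ := inferInstanceAs (Epi q)
  haveI : IsIso α.τ₂ := inferInstanceAs (IsIso (𝟙 _))
  haveI : Mono α.τ₃ := inferInstanceAs (Mono (𝟙 _))
  exact (ShortComplex.exact_iff_of_epi_of_isIso_of_mono α).1 hd

theorem zero_step {F : C} (J : ℕ → C) (d : ∀ p, J p ⟶ J (p + 1)) (e : F ⟶ J 0) [Mono e]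
    (hw : ∀ p, d p ≫ d (p + 1) = 0) (hew : e ≫ d 0 = 0) (hJ : ∀ p i : ℕ, Subsingleton (Ext Z (J p) (i + 1)))
    (π : cocyc Z (d 1) →+ Ext Z (cokernel e) 0) (hπ : Function.Surjective π) (hker : ∀ φ, π φ = 0 ↔ φ.1 = 0)
    (hπm : ∀ (g : Z ⟶ cokernel e) (φ : cocyc Z (d 1)), φ.1 = g ≫ cokernel.desc e (d 0) hew → π φ = Ext.mk₀ g)
    (hS : (ShortComplex.mk e (cokernel.π e) (cokernel.condition e)).ShortExact) :
    Function.Surjective (fun φ => (π φ).comp hS.extClass (zero_add 1)) ∧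
      ∀ φ, (π φ).comp hS.extClass (zero_add 1) = 0 ↔ ∃ ψ : Z ⟶ J 0, ψ ≫ d 0 = φ.1 := by
  let q : J 0 ⟶ cokernel e := cokernel.π e
  let m : cokernel e ⟶ J 1 := cokernel.desc e (d 0) hew
  have hqm : ∀ ψ : Z ⟶ J 0, (ψ ≫ q) ≫ m = ψ ≫ d 0 := fun ψ => by simp [q, m]
  refine ⟨fun x => ?_, fun φ => ⟨fun h => ?_, ?_⟩⟩
  · obtain ⟨z, hz⟩ := Ext.covariant_sequence_exact₁ _ hS x (Subsingleton.elim (h := hJ 0 0) _ 0) (rfl : 0 + 1 = 1)
    obtain ⟨φ, rfl⟩ := hπ z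
    exact ⟨φ, hz⟩
  · obtain ⟨z, hz⟩ := Ext.covariant_sequence_exact₃ _ hS (π φ) (rfl : 0 + 1 = 1) h
    obtain ⟨ψ, rfl⟩ := (Ext.mk₀_bijective _ _).2 z
    rw [Ext.mk₀_comp_mk₀] at hz
    let φ₀ : cocyc Z (d 1) := ⟨ψ ≫ d 0, show (ψ ≫ d 0) ≫ d 1 = 0 by rw [Category.assoc, hw 0, comp_zero]⟩
    have h2 : π (φ - φ₀) = 0 := by
      rw [map_sub, ← hz, hπm (ψ ≫ q) φ₀ (hqm ψ).symm, sub_self]
    exact ⟨ψ, (sub_eq_zero.1 ((hker _).1 h2)).symm⟩
  · rintro ⟨ψ, hψ⟩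
    show (π φ).comp hS.extClass (zero_add 1) = 0
    rw [hπm (ψ ≫ q) φ (hψ.symm.trans (hqm ψ).symm), ← Ext.mk₀_comp_mk₀, Ext.comp_assoc_of_second_deg_zero]
    erw [hS.comp_extClass, Ext.comp_zero]

theorem succ_step {F : C} (J : ℕ → C) (d : ∀ p, J p ⟶ J (p + 1)) (e : F ⟶ J 0) [Mono e] (p : ℕ)
    (hJ : ∀ p i : ℕ, Subsingleton (Ext Z (J p) (i + 1)))
    (π : cocyc Z (d (p + 2)) →+ Ext Z (cokernel e) (p + 1)) (hπ : Function.Surjective π)
    (hker : ∀ φ, π φ = 0 ↔ ∃ ψ : Z ⟶ J (p + 1), ψ ≫ d (p + 1) = φ.1)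
    (hS : (ShortComplex.mk e (cokernel.π e) (cokernel.condition e)).ShortExact) :
    Function.Surjective (fun φ => (π φ).comp hS.extClass (rfl : p + 1 + 1 = p + 1 + 1)) ∧
      ∀ φ, (π φ).comp hS.extClass (rfl : p + 1 + 1 = p + 1 + 1) = 0 ↔ ∃ ψ : Z ⟶ J (p + 1), ψ ≫ d (p + 1) = φ.1 := by
  refine ⟨fun x => ?_, fun φ => ?_⟩
  · obtain ⟨z, hz⟩ := Ext.covariant_sequence_exact₁ _ hS x (Subsingleton.elim (h := hJ 0 (p + 1)) _ 0) (rfl : p + 1 + 1 = p + 1 + 1)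
    obtain ⟨φ, rfl⟩ := hπ z
    exact ⟨φ, hz⟩
  · refine Iff.trans ⟨fun h => ?_, fun h => ?_⟩ (hker φ)
    · obtain ⟨z, hz⟩ := Ext.covariant_sequence_exact₃ _ hS (π φ) (rfl : p + 1 + 1 = p + 1 + 1) h
      rw [← hz, Subsingleton.elim (h := hJ 0 p) z 0, Ext.zero_comp]
    · show (π φ).comp hS.extClass (rfl : p + 1 + 1 = p + 1 + 1) = 0
      rw [h, Ext.zero_comp]

/-- Compatible cocycle descriptions for a morphism of resolutions. -/
theorem exists_hom_cocycles_pair {F F' : C} (a : F ⟶ F') (J J' : ℕ → C) (d : ∀ p, J p ⟶ J (p + 1))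
    (d' : ∀ p, J' p ⟶ J' (p + 1)) (b : ∀ p, J p ⟶ J' p) (hb : ∀ p, d p ≫ b (p + 1) = b p ≫ d' p)
    (e : F ⟶ J 0) [Mono e] (e' : F' ⟶ J' 0) [Mono e'] (hab : a ≫ e' = e ≫ b 0)
    (hw : ∀ p, d p ≫ d (p + 1) = 0) (hw' : ∀ p, d' p ≫ d' (p + 1) = 0)
    (hew : e ≫ d 0 = 0) (hew' : e' ≫ d' 0 = 0)
    (he : (ShortComplex.mk e (d 0) hew).Exact) (he' : (ShortComplex.mk e' (d' 0) hew').Exact)
    (hd : ∀ p, (ShortComplex.mk (d p) (d (p + 1)) (hw p)).Exact)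
    (hd' : ∀ p, (ShortComplex.mk (d' p) (d' (p + 1)) (hw' p)).Exact)
    (hJ : ∀ p i : ℕ, Subsingleton (Ext Z (J p) (i + 1))) (hJ' : ∀ p i : ℕ, Subsingleton (Ext Z (J' p) (i + 1))) :
    ∀ p, ∃ (π : cocyc Z (d (p + 1)) →+ Ext Z F (p + 1)) (π' : cocyc Z (d' (p + 1)) →+ Ext Z F' (p + 1)),
      (Function.Surjective π ∧ ∀ φ, π φ = 0 ↔ ∃ ψ : Z ⟶ J p, ψ ≫ d p = φ.1) ∧
      (Function.Surjective π' ∧ ∀ φ, π' φ = 0 ↔ ∃ ψ : Z ⟶ J' p, ψ ≫ d' p = φ.1) ∧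
      ∀ φ φ', φ'.1 = φ.1 ≫ b (p + 1) → π' φ' = (π φ).comp (Ext.mk₀ a) (add_zero _) := by
  intro p
  induction p generalizing F F' J J' with
  | zero =>
    have hS : (ShortComplex.mk e (cokernel.π e) (cokernel.condition e)).ShortExact := { exact := ShortComplex.exact_cokernel e }
    have hS' : (ShortComplex.mk e' (cokernel.π e') (cokernel.condition e')).ShortExact := { exact := ShortComplex.exact_cokernel e' }
    obtain ⟨_, hmd, hm⟩ := coker_res (d 0) (d 1) e (hw 0) hew he (hd 0)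
    obtain ⟨_, hmd', hm'⟩ := coker_res (d' 0) (d' 1) e' (hw' 0) hew' he' (hd' 0)
    let c : cokernel e ⟶ cokernel e' := cokernel.map e e' a (b 0) hab.symm
    have hc : c ≫ cokernel.desc e' (d' 0) hew' = cokernel.desc e (d 0) hew ≫ b 1 := by
      rw [← cancel_epi (cokernel.π e)]; simp [c, hb]
    have key : hS.extClass.comp (Ext.mk₀ a) (add_zero 1) = (Ext.mk₀ c).comp hS'.extClass (zero_add 1) :=
      ShortComplex.ShortExact.extClass_naturality hS hS'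
        { τ₁ := a, τ₂ := b 0, τ₃ := c, comm₁₂ := hab, comm₂₃ := by simp [c] }
    obtain ⟨π, hπ, hk, hπm⟩ := exists_hom_cocycles_zero (Z := Z) (d 1) (cokernel.desc e (d 0) hew) hmd hm
    obtain ⟨π', hπ', hk', hπm'⟩ := exists_hom_cocycles_zero (Z := Z) (d' 1) (cokernel.desc e' (d' 0) hew') hmd' hm'
    refine ⟨AddMonoidHom.mk' (fun φ => (π φ).comp hS.extClass (zero_add 1)) (fun a b => by simp only [map_add, Ext.add_comp]),
      AddMonoidHom.mk' (fun φ => (π' φ).comp hS'.extClass (zero_add 1)) (fun a b => by simp only [map_add, Ext.add_comp]),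
      zero_step J d e hw hew hJ π hπ hk hπm hS, zero_step J' d' e' hw' hew' hJ' π' hπ' hk' hπm' hS', fun φ φ' h => ?_⟩
    show (π' φ').comp hS'.extClass (zero_add 1) = ((π φ).comp hS.extClass (zero_add 1)).comp (Ext.mk₀ a) (add_zero _)
    let g := hm.lift φ.1 φ.2
    have hg : φ.1 = g ≫ cokernel.desc e (d 0) hew := (hm.lift_f _ _).symm
    rw [hπm g φ hg, hπm' (g ≫ c) φ' (by rw [h, hg, Category.assoc, Category.assoc, hc]), Ext.comp_assoc_of_third_deg_zero, key,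
      ← Ext.mk₀_comp_mk₀, Ext.comp_assoc_of_second_deg_zero]
  | succ p ih =>
    have hS : (ShortComplex.mk e (cokernel.π e) (cokernel.condition e)).ShortExact := { exact := ShortComplex.exact_cokernel e }
    have hS' : (ShortComplex.mk e' (cokernel.π e') (cokernel.condition e')).ShortExact := { exact := ShortComplex.exact_cokernel e' }
    obtain ⟨_, hmd, hm⟩ := coker_res (d 0) (d 1) e (hw 0) hew he (hd 0)
    obtain ⟨_, hmd', hm'⟩ := coker_res (d' 0) (d' 1) e' (hw' 0) hew' he' (hd' 0)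
    let c : cokernel e ⟶ cokernel e' := cokernel.map e e' a (b 0) hab.symm
    have hc : c ≫ cokernel.desc e' (d' 0) hew' = cokernel.desc e (d 0) hew ≫ b 1 := by
      rw [← cancel_epi (cokernel.π e)]; simp [c, hb]
    have key : hS.extClass.comp (Ext.mk₀ a) (add_zero 1) = (Ext.mk₀ c).comp hS'.extClass (zero_add 1) :=
      ShortComplex.ShortExact.extClass_naturality hS hS'
        { τ₁ := a, τ₂ := b 0, τ₃ := c, comm₁₂ := hab, comm₂₃ := by simp [c] }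
    obtain ⟨π, π', h1, h2, hcomm⟩ := ih c (fun q => J (q + 1)) (fun q => J' (q + 1)) (fun q => d (q + 1)) (fun q => d' (q + 1))
      (fun q => b (q + 1)) (fun q => hb (q + 1)) (cokernel.desc e (d 0) hew) (cokernel.desc e' (d' 0) hew') hc
      (fun q => hw (q + 1)) (fun q => hw' (q + 1)) hmd hmd' hm hm' (fun q => hd (q + 1)) (fun q => hd' (q + 1))
      (fun q => hJ (q + 1)) (fun q => hJ' (q + 1))
    refine ⟨AddMonoidHom.mk' (fun φ => (π φ).comp hS.extClass (rfl : p + 1 + 1 = p + 1 + 1)) (fun a b => by simp only [map_add, Ext.add_comp]),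
      AddMonoidHom.mk' (fun φ => (π' φ).comp hS'.extClass (rfl : p + 1 + 1 = p + 1 + 1)) (fun a b => by simp only [map_add, Ext.add_comp]),
      succ_step J d e p hJ π h1.1 h1.2 hS, succ_step J' d' e' p hJ' π' h2.1 h2.2 hS', fun φ φ' h => ?_⟩
    show (π' φ').comp hS'.extClass (rfl : p + 1 + 1 = p + 1 + 1) = ((π φ).comp hS.extClass (rfl : p + 1 + 1 = p + 1 + 1)).comp (Ext.mk₀ a) (add_zero _)
    rw [hcomm φ φ' h, Ext.comp_assoc_of_third_deg_zero, key, Ext.comp_assoc_of_second_deg_zero]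

end GrothLib.GlobDual22
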