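import Groth.Prelude.Def_CAlg
import Groth.Agent.Lib.ExtTilde20.Coh
import Mathlib.RingTheory.Regular.RegularSequence
import Mathlib.RingTheory.KrullDimension.Regular
import Mathlib.RingTheory.Ideal.AssociatedPrime.Finiteness

/-! `Ext^n(κ, H) ≠ 0` for a nonzero finite module over a Cohen–Macaulay ring of dimension `n`. -/

set_option linter.style.haveILetI false

universe u

open CategoryTheory CategoryTheory.Limits CategoryTheory.Abelian IsLocalRing RingTheory.Sequence

namespace GrothLib.GlobDual22

variable {A : CommRingCat.{u}} [IsLocalRing A] [IsNoetherianRing A]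

theorem finite_ext (M H : ModuleCat.{u} A) [Module.Finite A M] [Module.Finite A H] (i : ℕ) :
    Module.Finite A (Ext.{u} M H i) := ExtTilde20.moduleFinite_ext M H i

/-- Cutting by a regular element raises the degree by one. -/
theorem nontrivial_ext_succ (M H : ModuleCat.{u} A) [Module.Finite A M] [Module.Finite A H] {x : A}
    (hx : x ∈ maximalIdeal A) (hr : IsSMulRegular M x) (i : ℕ) [Nontrivial (Ext.{u} M H i)] :
    Nontrivial (Ext.{u} (ModuleCat.of A (QuotSMulTop x M)) H (i + 1)) := by
  let g : M ⟶ ModuleCat.of A (QuotSMulTop x M) := ModuleCat.ofHom (Submodule.mkQ _)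
  have w : (x • 𝟙 M) ≫ g = 0 := by
    refine ModuleCat.hom_ext (LinearMap.ext fun m => ?_)
    exact (Submodule.Quotient.mk_eq_zero _).2 (Submodule.smul_mem_pointwise_smul m x ⊤ trivial)
  have hS : (ShortComplex.mk (x • 𝟙 M) g w).ShortExact :=
    { exact := (ShortComplex.moduleCat_exact_iff _).2 fun m hm => by
        obtain ⟨y, -, hy⟩ := Submodule.mem_map.1 ((Submodule.Quotient.mk_eq_zero _).1 hm)
        exact ⟨y, hy⟩
      mono_f := (ModuleCat.mono_iff_injective _).2 hr
      epi_g := (ModuleCat.epi_iff_surjective _).2 (Submodule.mkQ_surjective _) }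
  by_contra hne
  rw [not_nontrivial_iff_subsingleton] at hne
  haveI := finite_ext M H i
  have htop : (⊤ : Submodule A (Ext.{u} M H i)) ≤ maximalIdeal A • ⊤ := by
    intro z _
    obtain ⟨w', hw'⟩ := Ext.contravariant_sequence_exact₁ hS H z (add_comm 1 i)
      (Subsingleton.elim (h := hne) _ _)
    have hxw : (Ext.mk₀ (x • 𝟙 M)).comp w' (zero_add i) = x • w' := by
      rw [Ext.mk₀_smul, Ext.smul_comp, Ext.mk₀_id_comp]
    rw [← hw']
    exact hxw ▸ Submodule.smul_mem_smul hx Submodule.mem_top
  have hbot := Submodule.eq_bot_of_le_smul_of_le_jacobson_bot (maximalIdeal A) ⊤ Module.Finite.fg_top htop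
    (IsLocalRing.maximalIdeal_le_jacobson _)
  exact not_subsingleton (Ext.{u} M H i) ((Submodule.subsingleton_iff A).1 (subsingleton_iff_bot_eq_top.1 hbot.symm))

theorem nontrivial_ext_list : ∀ (rs : List A) (M H : ModuleCat.{u} A) [Module.Finite A M] [Module.Finite A H],
    IsWeaklyRegular M rs → (∀ r ∈ rs, r ∈ maximalIdeal A) → ∀ (i : ℕ), Nontrivial (Ext.{u} M H i) →
      Nontrivial (Ext.{u} (ModuleCat.of A (M ⧸ (Ideal.ofList rs • ⊤ : Submodule A M))) H (i + rs.length)) := by
  intro rs
  induction rs with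
  | nil =>
    intro M H _ _ _ _ i hi
    let e : ModuleCat.of A (M ⧸ (Ideal.ofList ([] : List A) • ⊤ : Submodule A M)) ≅ M :=
      (Submodule.quotEquivOfEqBot _ (by simp)).toModuleIso
    exact ((((extFunctor.{u} i).mapIso e.symm.op).app H).addCommGroupIsoToAddEquiv).toEquiv.nontrivial_congr.2 hi
  | cons r rs ih =>
    intro M H _ _ hw hm i hi
    rw [isWeaklyRegular_cons_iff] at hw
    have h1 := nontrivial_ext_succ M H (hm r List.mem_cons_self) hw.1 i
    have h2 := ih (ModuleCat.of A (QuotSMulTop r M)) H hw.2 (fun a ha => hm a (List.mem_cons_of_mem _ ha)) (i + 1) h1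
    let e := (Submodule.quotOfListConsSMulTopEquivQuotSMulTopInner M r rs).toModuleIso
    rw [List.length_cons, show i + (rs.length + 1) = i + 1 + rs.length by omega]
    exact ((((extFunctor.{u} (i + 1 + rs.length)).mapIso e.op).app H).addCommGroupIsoToAddEquiv).toEquiv.nontrivial_congr.1 h2

/-- Vanishing against the residue field gives vanishing against modules supported at the closed point. -/
theorem subsingleton_ext_of_support (H : ModuleCat.{u} A) (q : ℕ)
    (h : Subsingleton (Ext.{u} (ModuleCat.of A (ResidueField A)) H q)) (N : Type u) [AddCommGroup N] [Module A N]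
    [Module.Finite A N] (hN : Module.support A N ⊆ {IsLocalRing.closedPoint A}) :
    Subsingleton (Ext.{u} (ModuleCat.of A N) H q) := by
  revert hN
  refine IsNoetherianRing.induction_on_isQuotientEquivQuotientPrime A (M := N) inferInstance
    (motive := fun N _ _ _ => Module.support A N ⊆ {IsLocalRing.closedPoint A} →
      Subsingleton (Ext.{u} (ModuleCat.of A N) H q)) ?_ ?_ ?_
  · intro N _ _ _ _ _
    exact subsingleton_of_forall_eq 0 fun x => by
      rw [← Ext.mk₀_id_comp x, show 𝟙 (ModuleCat.of A N) = 0 from (ModuleCat.isZero_of_subsingleton _).eq_of_src _ _,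
        Ext.mk₀_zero, Ext.zero_comp]
  · intro N _ _ _ p e hN
    have hp : p.1 = maximalIdeal A := by
      have : p ∈ Module.support A N := by
        rw [e.support_eq, Module.support_eq_zeroLocus, Ideal.annihilator_quotient, PrimeSpectrum.mem_zeroLocus]
      exact congrArg PrimeSpectrum.asIdeal (hN this)
    let e' : ModuleCat.of A N ≅ ModuleCat.of A (ResidueField A) :=
      (e.trans (Submodule.quotEquivOfEq _ _ hp)).toModuleIso
    exact (((extFunctor.{u} q).mapIso e'.op).app H).addCommGroupIsoToAddEquiv.toEquiv.subsingleton_congr.1 h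
  · intro N₁ _ _ _ N₂ _ _ _ N₃ _ _ _ f g hf hg hfg h₁ h₃ hN
    have hs := Module.support_of_exact hfg hf hg
    have hS : (ShortComplex.mk (ModuleCat.ofHom f) (ModuleCat.ofHom g)
        (ModuleCat.hom_ext (LinearMap.ext fun a => hfg.apply_apply_eq_zero a))).ShortExact :=
      { exact := (ShortComplex.moduleCat_exact_iff _).2 fun a ha => (hfg a).1 ha
        mono_f := (ModuleCat.mono_iff_injective _).2 hf
        epi_g := (ModuleCat.epi_iff_surjective _).2 hg }
    refine subsingleton_of_forall_eq 0 fun x => ?_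
    obtain ⟨y, hy⟩ := Ext.contravariant_sequence_exact₂ hS H x
      (Subsingleton.elim (h := h₁ fun p hp => hN (hs ▸ Or.inl hp)) _ 0)
    rw [← hy, Subsingleton.elim (h := h₃ fun p hp => hN (hs ▸ Or.inr hp)) y 0, Ext.comp_zero]

/-- The top degree of `Ext(κ, H)`. -/
theorem nontrivial_ext_residue [LocCoh.IsCohenMacaulayLocalRing A] {n : ℕ} (hn : ringKrullDim A = (n : WithBot ℕ∞))
    (H : ModuleCat.{u} A) [Module.Finite A H] [Nontrivial H] :
    Nontrivial (Ext.{u} (ModuleCat.of A (ResidueField A)) H n) := by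
  have hd : LocCoh.depth A A = (n : ℕ∞) := by
    have h := LocCoh.IsCohenMacaulayLocalRing.supportDim_eq_depth (R := A)
    rw [Module.supportDim_self_eq_ringKrullDim, hn] at h
    exact (WithBot.coe_injective h).symm
  obtain ⟨rs, hw, hm, hlen⟩ : ∃ rs : List A, IsWeaklyRegular A rs ∧ (∀ r ∈ rs, r ∈ maximalIdeal A) ∧ n ≤ rs.length := by
    rcases Nat.eq_zero_or_pos n with rfl | hpos
    · exact ⟨[], IsWeaklyRegular.nil A A, fun r hr => absurd hr List.not_mem_nil, le_rfl⟩
    · have h := hd
      rw [LocCoh.depth, LocCoh.idealDepth] at h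
      split_ifs at h with htop
      · exact absurd h (ENat.top_ne_coe n)
      have hlt : ((n - 1 : ℕ) : ℕ∞) < ⨆ (rs : List A) (_ : IsWeaklyRegular A rs ∧ ∀ r ∈ rs, r ∈ maximalIdeal A),
          (rs.length : ℕ∞) := by
        rw [h]
        exact_mod_cast (show n - 1 < n by omega)
      obtain ⟨rs, hrs⟩ := lt_iSup_iff.1 hlt
      obtain ⟨⟨h1, h2⟩, h3⟩ := lt_iSup_iff.1 hrs
      exact ⟨rs, h1, h2, by have : n - 1 < rs.length := (by exact_mod_cast h3); omega⟩
  have hreg : IsRegular A rs := by
    refine ⟨hw, fun h => ?_⟩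
    have hle : Ideal.ofList rs ≤ maximalIdeal A := Ideal.span_le.2 fun r hr => hm r hr
    refine (maximalIdeal.isMaximal A).ne_top (top_le_iff.1 ?_)
    rw [h, Ideal.smul_top_eq_map]
    exact fun a ha => hle (by simpa using ha)
  have hdim := Module.supportDim_add_length_eq_supportDim_of_isRegular rs hreg
  rw [Module.supportDim_self_eq_ringKrullDim, hn] at hdim
  let N := A ⧸ (Ideal.ofList rs • ⊤ : Submodule A A)
  haveI : Nontrivial N := Submodule.Quotient.nontrivial_iff.2 (fun h => hreg.top_ne_smul h.symm)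
  obtain ⟨m, hm'⟩ : ∃ m : ℕ∞, Module.supportDim A N = (m : WithBot ℕ∞) :=
    WithBot.ne_bot_iff_exists.1 (Module.supportDim_ne_bot_of_nontrivial A N) |>.imp fun _ h => h.symm
  rw [hm'] at hdim
  have hml : m + (rs.length : ℕ∞) = (n : ℕ∞) := by exact_mod_cast hdim
  obtain ⟨m₀, rfl⟩ : ∃ m₀ : ℕ, m = (m₀ : ℕ∞) := by
    cases m with
    | top => simp at hml
    | coe a => exact ⟨a, rfl⟩
  have hml' : m₀ + rs.length = n := by exact_mod_cast hml
  have hsupp : Module.support A N ⊆ {IsLocalRing.closedPoint A} := by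
    intro p hp
    have h0 : Module.supportDim A N ≤ 0 := by rw [hm', show m₀ = 0 by omega]; rfl
    by_contra hne
    have hlt : p < IsLocalRing.closedPoint A := lt_of_le_of_ne (IsLocalRing.le_maximalIdeal p.2.ne_top) hne
    have hc : IsLocalRing.closedPoint A ∈ Module.support A N := IsLocalRing.closedPoint_mem_support A N
    have : (1 : WithBot ℕ∞) ≤ Module.supportDim A N := by
      refine le_trans ?_ (Order.LTSeries.length_le_krullDim
        ((RelSeries.singleton _ (⟨p, hp⟩ : Module.support A N)).snoc ⟨IsLocalRing.closedPoint A, hc⟩ hlt))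
      simp
    exact absurd (this.trans h0) (by simp)
  have hH : Nontrivial (Ext.{u} (ModuleCat.of A A) H 0) :=
    (Ext.addEquiv₀.toEquiv.trans ((ModuleCat.homLinearEquiv (S := A)).trans
      (LinearMap.ringLmapEquivSelf A A H)).toEquiv).nontrivial_congr.2 inferInstance
  have key := nontrivial_ext_list rs (ModuleCat.of A A) H hw hm 0 hH
  rw [Nat.zero_add, show rs.length = n by omega] at key
  by_contra hne
  exact not_subsingleton _ (subsingleton_ext_of_support H n (not_nontrivial_iff_subsingleton.1 hne) N hsupp)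

end GrothLib.GlobDual22
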