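import Groth.Agent.Lib.GlobDual22.Main

/-! The global duality bijection, natural in the source. -/

set_option autoImplicit false
set_option maxHeartbeats 1600000
set_option linter.style.haveILetI false
set_option backward.isDefEq.respectTransparency false

universe u

open CategoryTheory CategoryTheory.Limits AlgebraicGeometry

attribute [local instance] HasDerivedCategory.standard

noncomputable section

namespace GrothLib.GlobDual22

/-- Morphisms in a full subcategory. -/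
def homAddEquivFull {C : Type*} [Category C] [Preadditive C] (P : ObjectProperty C) (A B : P.FullSubcategory) :
    (A ⟶ B) ≃+ (A.obj ⟶ B.obj) where
  toFun x := x.hom
  invFun x := ObjectProperty.homMk x
  left_inv _ := rfl
  right_inv _ := rfl
  map_add' _ _ := rfl

variable {R : Type u} [CommRing R] {X : Scheme.{u}}
  (f : X ⟶ Spec (CommRingCat.of R)) [PreservesFiniteLimits (tilde.functor (CommRingCat.of R))]
  [DCoh.HasRpush f] (h : DCoh.RpushPreservesQCoh f) [DCoh.HasShriek f h]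

omit [DCoh.HasShriek f h] in
theorem additive_RpushQ : (DCoh.RpushQ f h).Additive := by
  haveI : (DCoh.Rpush f).Additive := Functor.additive_of_iso (OX.rpushIsoRres f).symm
  exact ⟨fun {A B u v} => ObjectProperty.hom_ext _ ((DCoh.Rpush f).map_add)⟩

theorem exists_dual_addEquiv {P ωR : Dual.D R} (W : DCoh.DQCoh (Spec (CommRingCat.of R)))
    (eω : W.obj ≅ (DCoh.tildeD (CommRingCat.of R)).obj ωR) (G : DCoh.D X) (hG : DCoh.IsQCohD G) (m : ℤ)
    (eP : (DCoh.tildeD (CommRingCat.of R)).obj P ≅ (DCoh.Rpush f).obj G) :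
    ∃ Φ : (P ⟶ ωR⟦m⟧) ≃+ (G ⟶ (DCoh.dualizingCx f h W)⟦m⟧),
      ∀ (g : P ⟶ P) (k : G ⟶ G), (DCoh.tildeD (CommRingCat.of R)).map g ≫ eP.hom = eP.hom ≫ (DCoh.Rpush f).map k →
        ∀ φ, Φ (g ≫ φ) = k ≫ Φ φ := by
  let T := DCoh.tildeD (CommRingCat.of R)
  haveI := (OX.tildeD_full_faithful_essImage (R := CommRingCat.of R)).1
  haveI := (OX.tildeD_full_faithful_essImage (R := CommRingCat.of R)).2.1
  haveI : T.Additive := inferInstance
  haveI : (DCoh.Rpush f).Additive := Functor.additive_of_iso (OX.rpushIsoRres f).symm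
  haveI := additive_RpushQ f h
  let n : ℤ := -m
  have hq : DCoh.IsQCohD (G⟦n⟧) := OX.isQCohD_shift hG n
  let A₁ := (shiftEquiv' (Dual.D R) n m (by omega)).toAdjunction
  let A₄ := (shiftEquiv' (DCoh.D X) n m (by omega)).toAdjunction
  haveI : (shiftEquiv' (Dual.D R) n m (by omega : n + m = 0)).functor.Additive := inferInstanceAs (shiftFunctor _ n).Additive
  haveI : (shiftEquiv' (DCoh.D X) n m (by omega : n + m = 0)).functor.Additive := inferInstanceAs (shiftFunctor _ n).Additive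
  let a₁ : (P ⟶ ωR⟦m⟧) ≃+ (P⟦n⟧ ⟶ ωR) := (A₁.homAddEquiv P ωR).symm
  let σ : (DCoh.Rpush f).obj (G⟦n⟧) ≅ ((DCoh.Rpush f).obj G)⟦n⟧ :=
    (OX.rpushIsoRres f).app _ ≪≫ ((OX.RR f).commShiftIso n).app G ≪≫ (shiftFunctor _ n).mapIso ((OX.rpushIsoRres f).app G).symm
  have hσ : ∀ k : G ⟶ G, (DCoh.Rpush f).map (k⟦n⟧') ≫ σ.hom = σ.hom ≫ ((DCoh.Rpush f).map k)⟦n⟧' := fun k => by
    have h1 := (OX.rpushIsoRres f).hom.naturality (k⟦n⟧')
    have h2 := ((OX.RR f).commShiftIso n).hom.naturality k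
    have h3 := (shiftFunctor (DCoh.D (Spec (CommRingCat.of R))) n).congr_map ((OX.rpushIsoRres f).inv.naturality k)
    simp only [Functor.map_comp] at h3
    show _ ≫ (_ ≫ _ ≫ _) = (_ ≫ _ ≫ _) ≫ _
    simp only [Category.assoc]
    erw [reassoc_of% h1, reassoc_of% h2, h3]
    rfl
  let eQ : T.obj (P⟦n⟧) ≅ (DCoh.Rpush f).obj (G⟦n⟧) :=
    (T.commShiftIso n).app P ≪≫ (shiftFunctor _ n).mapIso eP ≪≫ σ.symm
  let FF := Functor.FullyFaithful.ofFullyFaithful T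
  let a₂ : (P⟦n⟧ ⟶ ωR) ≃+ ((DCoh.Rpush f).obj (G⟦n⟧) ⟶ W.obj) :=
    AddEquiv.mk' (FF.homEquiv.trans (Iso.homCongr eQ eω.symm)) (fun x y => by
      show eQ.inv ≫ T.map (x + y) ≫ _ = eQ.inv ≫ T.map x ≫ _ + eQ.inv ≫ T.map y ≫ _
      rw [Functor.map_add, Preadditive.add_comp, Preadditive.comp_add])
  let G' : DCoh.DQCoh X := ⟨G⟦n⟧, hq⟩
  let a₃ : ((DCoh.Rpush f).obj (G⟦n⟧) ⟶ W.obj) ≃+ (G⟦n⟧ ⟶ DCoh.dualizingCx f h W) :=
    (homAddEquivFull _ ((DCoh.RpushQ f h).obj G') W).symm.trans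
      (((DCoh.shriekAdj f h).homAddEquiv G' W).trans (homAddEquivFull _ G' ((DCoh.shriek f h).obj W)))
  let a₄ : (G⟦n⟧ ⟶ DCoh.dualizingCx f h W) ≃+ (G ⟶ (DCoh.dualizingCx f h W)⟦m⟧) :=
    A₄.homAddEquiv G _
  refine ⟨((a₁.trans a₂).trans a₃).trans a₄, fun g k hgk φ => ?_⟩
  have h₁ : a₁ (g ≫ φ) = g⟦n⟧' ≫ a₁ φ := A₁.homEquiv_naturality_left_symm g φ
  have hQ : T.map (g⟦n⟧') ≫ eQ.hom = eQ.hom ≫ (DCoh.Rpush f).map (k⟦n⟧') := by
    have e1 := (T.commShiftIso n).hom.naturality g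
    have e2 := (shiftFunctor (DCoh.D (Spec (CommRingCat.of R))) n).congr_map hgk
    have e3 : ((DCoh.Rpush f).map k)⟦n⟧' ≫ σ.inv = σ.inv ≫ (DCoh.Rpush f).map (k⟦n⟧') := by
      rw [Iso.comp_inv_eq, Category.assoc, hσ k, Iso.inv_hom_id_assoc]
    simp only [Functor.map_comp] at e2
    show _ ≫ (_ ≫ _ ≫ σ.inv) = (_ ≫ _ ≫ σ.inv) ≫ _
    simp only [Category.assoc]
    erw [reassoc_of% e1, reassoc_of% e2, e3]
    rfl
  have h₂ : ∀ x, a₂ (g⟦n⟧' ≫ x) = (DCoh.Rpush f).map (k⟦n⟧') ≫ a₂ x := fun x => by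
    show eQ.inv ≫ T.map (g⟦n⟧' ≫ x) ≫ _ = (DCoh.Rpush f).map (k⟦n⟧') ≫ eQ.inv ≫ T.map x ≫ _
    have e4 : eQ.inv ≫ T.map (g⟦n⟧') = (DCoh.Rpush f).map (k⟦n⟧') ≫ eQ.inv := by
      rw [Iso.inv_comp_eq, ← Category.assoc, Iso.eq_comp_inv, hQ]
    rw [Functor.map_comp, Category.assoc, reassoc_of% e4]
  have h₃ : ∀ x, a₃ ((DCoh.Rpush f).map (k⟦n⟧') ≫ x) = k⟦n⟧' ≫ a₃ x := fun x =>
    congrArg InducedCategory.Hom.hom ((DCoh.shriekAdj f h).homEquiv_naturality_left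
      (ObjectProperty.homMk (k⟦n⟧') : G' ⟶ G') (ObjectProperty.homMk x : (DCoh.RpushQ f h).obj G' ⟶ W))
  show a₄ (a₃ (a₂ (a₁ (g ≫ φ)))) = k ≫ a₄ (a₃ (a₂ (a₁ φ)))
  rw [h₁, h₂, h₃]
  exact A₄.homEquiv_naturality_left k _

end GrothLib.GlobDual22
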