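import Groth.Agent.Lib.GlobDual22.Main
import Groth.Agent.Lib.CBExt28.Vanish
import Groth.Agent.Lib.SerrePn27.ToHH
import Groth.Agent.Lib.FMTrans15.Main

/-! Twisted vanishing form of local duality. -/

set_option autoImplicit false
set_option maxHeartbeats 1600000
set_option linter.style.haveILetI false
set_option backward.isDefEq.respectTransparency false

universe u

open CategoryTheory CategoryTheory.Limits AlgebraicGeometry IsLocalRing
open CategoryTheory.Abelian (Ext)

attribute [local instance] HasDerivedCategory.standard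

noncomputable section

namespace GrothLib.GlobDual22

variable {X : Scheme.{u}}

theorem isCoh_inverse {L M : X.Modules} (hL : PicF.IsInvertible L)
    (e : (DCoh.tensorBi.obj L).obj M ≅ Coh.structureModule X) [IsLocallyNoetherian X] : Coh.IsCoh M := by
  haveI := CBExt28.isEquivalence_Tw hL
  obtain ⟨N, hN, ⟨eN⟩, -⟩ := FMTrans15.exists_tensor_inverse hL
  exact QCoh.isCoh_of_iso ((CBExt28.Tw L).preimageIso (eN ≪≫ e.symm)) (Euler.isCoh_of_isInvertible hN)

theorem subsingleton_ext_iff_HH {k : Type u} [CommRing k] [X.Over (Spec (CommRingCat.of k))] [HasExt.{u} X.Modules]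
    {L M : X.Modules} (hL : PicF.IsInvertible L) (e : (DCoh.tensorBi.obj L).obj M ≅ Coh.structureModule X)
    (ω : X.Modules) (i : ℕ) :
    Subsingleton (Ext M ω i) ↔ Subsingleton (Coh.HH X ((DCoh.tensorBi.obj ω).obj L) i) := by
  haveI := CBExt28.isEquivalence_Tw hL
  haveI : EnoughInjectives X.Modules := SheafCoh.enoughInjectives_sheafOfModules X.ringCatSheaf
  let b : (CBExt28.Tw L).obj ω ≅ (DCoh.tensorBi.obj ω).obj L := (((OX.tensorBraiding (X := X)).app L).app ω).symm
  have h1 := (Equiv.ofBijective _ (Functor.mapExt_bijective_of_preservesInjectiveObjects (CBExt28.Tw L) M ω i)).subsingleton_congr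
  have h2 := ((((Abelian.extFunctor.{u} i).mapIso e.symm.op).app ((CBExt28.Tw L).obj ω)).addCommGroupIsoToAddEquiv).toEquiv.subsingleton_congr
  have h3 := (((Abelian.extFunctorObj.{u} (Coh.structureModule X) i).mapIso b).addCommGroupIsoToAddEquiv).toEquiv.subsingleton_congr
  have h4 := (Equiv.ofBijective _ (SerrePn27.bijective_toHH (k := k) i ((DCoh.tensorBi.obj ω).obj L))).subsingleton_congr
  exact h1.trans (h2.trans (h3.trans h4))

variable {R : Type u} [CommRing R] [IsNoetherianRing R] [IsLocalRing R]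

/-- `Hom(M, K⟦d + q⟧) = Ext^q(M, H^d K)` for `K` concentrated in degree `d`. -/
theorem subsingleton_hom_iff_ext [HasExt.{u} X.Modules] (M : X.Modules) (K : DCoh.D X) (d : ℤ)
    (hK : ∀ j, j ≠ d → IsZero (DCoh.HD K j)) (q : ℕ) :
    Subsingleton (DCoh.inD X M ⟶ K⟦d + (q : ℤ)⟧) ↔ Subsingleton (Ext M (DCoh.HD K d) q) := by
  haveI : K.IsGE d := (DerivedCategory.isGE_iff _ _).2 fun i hi => hK i (by omega)
  haveI : K.IsLE d := (DerivedCategory.isLE_iff _ _).2 fun i hi => hK i (by omega)
  obtain ⟨eK⟩ := DerTrunc.nonempty_iso_single K d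
  let F := DerivedCategory.singleFunctors X.Modules
  let e₁ : K⟦d + (q : ℤ)⟧ ≅ (DCoh.inD X (DCoh.HD K d))⟦(q : ℤ)⟧ :=
    (shiftFunctorAdd' _ d (q : ℤ) _ rfl).app _ ≪≫ (shiftFunctor _ (q : ℤ)).mapIso
      ((shiftFunctor _ d).mapIso eK ≪≫ (F.shiftIso d 0 d (by omega)).app _)
  exact (Abelian.Ext.homEquiv.trans (Iso.homCongr (Iso.refl _) e₁.symm)).subsingleton_congr.symm

end GrothLib.GlobDual22
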