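import Groth.Agent.Lib.GlobDual22.Res2
import Groth.Agent.Lib.GlobDual22.DualEquiv
import Groth.Agent.Lib.GlobDual22.Twist
import Groth.Prelude.Def_KLin
import Mathlib.Algebra.Homology.DerivedCategory.Linear
import Mathlib.Algebra.Homology.DerivedCategory.Ext.Linear

/-! Global duality as a linear isomorphism. -/

set_option autoImplicit false
set_option maxHeartbeats 1600000
set_option linter.style.haveILetI false
set_option backward.isDefEq.respectTransparency false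

universe u

open CategoryTheory CategoryTheory.Limits AlgebraicGeometry IsLocalRing
open CategoryTheory.Abelian (Ext)

attribute [local instance] HasDerivedCategory.standard

noncomputable section

namespace GrothLib.GlobDual22

variable {R : Type u} [CommRing R] {X : Scheme.{u}} [X.Over (Spec (CommRingCat.of R))]

theorem secR_smul (J : X.Modules) (r : R) :
    (secR (R := CommRingCat.of R) (X ↘ Spec (CommRingCat.of R))).map (r • 𝟙 J) = r • 𝟙 _ := by
  ext s
  let f := X ↘ Spec (CommRingCat.of R)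
  change (r • 𝟙 J).app (f ⁻¹ᵁ ⊤) s = r • s
  rw [KLin.smul_app_apply]
  show X.presheaf.map (homOfLE (le_top : f ⁻¹ᵁ ⊤ ≤ ⊤)).op (f.appTop ((Scheme.ΓSpecIso (CommRingCat.of R)).inv r)) • (show Γ(J, f ⁻¹ᵁ ⊤) from s) =
    f.app ⊤ ((Spec (CommRingCat.of R)).presheaf.map (homOfLE (le_top : (⊤ : (Spec (CommRingCat.of R)).Opens) ≤ ⊤)).op ((Scheme.ΓSpecIso (CommRingCat.of R)).inv r)) • (show Γ(J, f ⁻¹ᵁ ⊤) from s)
  congr 1
  simp

variable [IsNoetherianRing R] [IsLocalRing R] [IsProper (X ↘ Spec (CommRingCat.of R))]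
  [PreservesFiniteLimits (tilde.functor (CommRingCat.of R))] [DCoh.HasRpush (X ↘ Spec (CommRingCat.of R))]

theorem exists_model_linear [IsLocallyNoetherian X] (F : X.Modules) [F.IsQuasicoherent] :
    ∃ (P : Dual.D R) (eP : (DCoh.tildeD (CommRingCat.of R)).obj P ≅
        (DCoh.Rpush (X ↘ Spec (CommRingCat.of R))).obj (DCoh.inD X F)),
      (∀ i : ℕ, Nonempty (LocCohZ.HZM X F i (offClosed (X ↘ Spec (CommRingCat.of R))) ≃+
        Dual2.HDI R (maximalIdeal R) P (i : ℤ))) ∧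
      ∀ r : R, (DCoh.tildeD (CommRingCat.of R)).map (r • 𝟙 P) ≫ eP.hom =
        eP.hom ≫ (DCoh.Rpush (X ↘ Spec (CommRingCat.of R))).map (r • 𝟙 (DCoh.inD X F)) := by
  let f := X ↘ Spec (CommRingCat.of R)
  haveI : EnoughInjectives X.Modules := SheafCoh.enoughInjectives_sheafOfModules X.ringCatSheaf
  let Ri := CohExtend20.resolution F
  let K := Ri.cochainComplex
  haveI : K.IsKInjective := CochainComplex.isKInjective_of_injective K 0
  have hKq : ∀ n, (K.X n).IsQuasicoherent := fun n => by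
    by_cases h : 0 ≤ n
    · obtain ⟨m, rfl⟩ := Int.eq_ofNat_of_zero_le h
      exact OX.isQCoh_of_iso (Ri.cochainComplexXIso (m : ℤ) m rfl).symm (CohExtend20.qcoh_seq F m).1
    · exact OX.isQCoh_of_isZero (K.isZero_of_isStrictlyGE 0 n (by omega))
  haveI : IsIso (DerivedCategory.Q.map Ri.ι') := Localization.inverts _ (HomologicalComplex.quasiIso _ (ComplexShape.up ℤ)) _
    ((HomologicalComplex.mem_quasiIso_iff _).2 inferInstance)
  let eK : DCoh.inD X F ≅ DerivedCategory.Q.obj K :=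
    (DerivedCategory.singleFunctorIsoCompQ X.Modules 0).app F ≪≫ asIso (DerivedCategory.Q.map Ri.ι')
  obtain ⟨e, he⟩ := exists_model_natural (R := CommRingCat.of R) f K hKq
  refine ⟨DerivedCategory.Q.obj (modelCx (R := CommRingCat.of R) f F), e ≪≫ (DCoh.Rpush f).mapIso eK.symm,
    fun i => nonempty_HZM_equiv_HDI (R := CommRingCat.of R) f (maximalIdeal R) F i, fun r => ?_⟩
  have hM : (secCx (R := CommRingCat.of R) f).map (r • 𝟙 K) = r • 𝟙 _ := by
    ext n : 1
    exact secR_smul (K.X n) r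
  have h1 := he (r • 𝟙 K)
  rw [hM] at h1
  have hQ : DerivedCategory.Q.map (r • 𝟙 (modelCx (R := CommRingCat.of R) f F)) =
      r • 𝟙 (DerivedCategory.Q.obj (modelCx (R := CommRingCat.of R) f F)) := by
    rw [Functor.map_smul, CategoryTheory.Functor.map_id]
  have hQK : DerivedCategory.Q.map (r • 𝟙 K) = r • 𝟙 (DerivedCategory.Q.obj K) := by
    rw [Functor.map_smul, CategoryTheory.Functor.map_id]
  have h2 : (DCoh.Rpush f).map (DerivedCategory.Q.map (r • 𝟙 K)) ≫ (DCoh.Rpush f).map eK.inv =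
      (DCoh.Rpush f).map eK.inv ≫ (DCoh.Rpush f).map (r • 𝟙 (DCoh.inD X F)) := by
    rw [← Functor.map_comp, ← Functor.map_comp, hQK, Linear.smul_comp, Linear.comp_smul, Category.id_comp, Category.comp_id]
  show (DCoh.tildeD (CommRingCat.of R)).map (r • 𝟙 _) ≫ (e.hom ≫ (DCoh.Rpush f).map eK.inv) =
    (e.hom ≫ (DCoh.Rpush f).map eK.inv) ≫ _
  erw [← hQ, reassoc_of% h1, h2, Category.assoc]

variable (h : DCoh.RpushPreservesQCoh (X ↘ Spec (CommRingCat.of R))) [DCoh.HasShriek (X ↘ Spec (CommRingCat.of R)) h]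

omit [IsNoetherianRing R] [IsLocalRing R] [IsProper (X ↘ Spec (CommRingCat.of R))] in
theorem nonempty_hom_linearEquiv {P ωR : Dual.D R} (W : DCoh.DQCoh (Spec (CommRingCat.of R)))
    (eω : W.obj ≅ (DCoh.tildeD (CommRingCat.of R)).obj ωR) (F : X.Modules) (hF : F.IsQuasicoherent) (m : ℤ)
    (eP : (DCoh.tildeD (CommRingCat.of R)).obj P ≅ (DCoh.Rpush (X ↘ Spec (CommRingCat.of R))).obj (DCoh.inD X F))
    (hr : ∀ r : R, (DCoh.tildeD (CommRingCat.of R)).map (r • 𝟙 P) ≫ eP.hom =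
        eP.hom ≫ (DCoh.Rpush (X ↘ Spec (CommRingCat.of R))).map (r • 𝟙 (DCoh.inD X F))) :
    Nonempty ((P ⟶ ωR⟦m⟧) ≃ₗ[R]
      (DCoh.inD X F ⟶ (DCoh.dualizingCx (X ↘ Spec (CommRingCat.of R)) h W)⟦m⟧)) := by
  obtain ⟨Φ, hΦ⟩ := exists_dual_addEquiv (X ↘ Spec (CommRingCat.of R)) h W eω (DCoh.inD X F)
    (DerTrunc.cohIn_single (OX.qcohP X) (show Coh.IsQCoh F from hF) 0) m eP
  refine ⟨{ Φ with map_smul' := fun r φ => ?_ }⟩
  show Φ (r • φ) = r • Φ φ
  have e := hΦ (r • 𝟙 P) (r • 𝟙 _) (hr r) φ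
  rw [Linear.smul_comp, Linear.smul_comp, Category.id_comp, Category.id_comp] at e
  exact e

omit [IsNoetherianRing R] [IsLocalRing R] [IsProper (X ↘ Spec (CommRingCat.of R))] in
theorem nonempty_hom_linearEquiv_ext [HasExt.{u} X.Modules] (M : X.Modules) (K : DCoh.D X) (d : ℤ)
    (hK : ∀ j, j ≠ d → IsZero (DCoh.HD K j)) (q : ℕ) :
    Nonempty ((DCoh.inD X M ⟶ K⟦d + (q : ℤ)⟧) ≃ₗ[R] Ext M (DCoh.HD K d) q) := by
  haveI : K.IsGE d := (DerivedCategory.isGE_iff _ _).2 fun i hi => hK i (by omega)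
  haveI : K.IsLE d := (DerivedCategory.isLE_iff _ _).2 fun i hi => hK i (by omega)
  obtain ⟨eK⟩ := DerTrunc.nonempty_iso_single K d
  let F := DerivedCategory.singleFunctors X.Modules
  let e₁ : K⟦d + (q : ℤ)⟧ ≅ (DCoh.inD X (DCoh.HD K d))⟦(q : ℤ)⟧ :=
    (shiftFunctorAdd' _ d (q : ℤ) _ rfl).app _ ≪≫ (shiftFunctor _ (q : ℤ)).mapIso
      ((shiftFunctor _ d).mapIso eK ≪≫ (F.shiftIso d 0 d (by omega)).app _)
  exact ⟨(Linear.homCongr R (Iso.refl _) e₁).trans Abelian.Ext.homLinearEquiv.symm⟩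

end GrothLib.GlobDual22
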