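import Groth.Agent.Lib.GlobDual22.DualEquiv

/-! The global duality bijection and morphisms of sources. -/

set_option autoImplicit false
set_option maxHeartbeats 1600000
set_option linter.style.haveILetI false
set_option backward.isDefEq.respectTransparency false

universe u

open CategoryTheory CategoryTheory.Limits AlgebraicGeometry

attribute [local instance] HasDerivedCategory.standard

noncomputable section

namespace GrothLib.GlobDual22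

variable {R : Type u} [CommRing R] {X : Scheme.{u}}
  (f : X ⟶ Spec (CommRingCat.of R)) [PreservesFiniteLimits (tilde.functor (CommRingCat.of R))]
  [DCoh.HasRpush f] (h : DCoh.RpushPreservesQCoh f) [DCoh.HasShriek f h]

theorem injective_dual_iff {P₁ P₂ ωR : Dual.D R} (W : DCoh.DQCoh (Spec (CommRingCat.of R)))
    (eω : W.obj ≅ (DCoh.tildeD (CommRingCat.of R)).obj ωR) (G₁ G₂ : DCoh.D X) (hG₁ : DCoh.IsQCohD G₁) (hG₂ : DCoh.IsQCohD G₂)
    (m : ℤ) (eP₁ : (DCoh.tildeD (CommRingCat.of R)).obj P₁ ≅ (DCoh.Rpush f).obj G₁)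
    (eP₂ : (DCoh.tildeD (CommRingCat.of R)).obj P₂ ≅ (DCoh.Rpush f).obj G₂) (g : P₂ ⟶ P₁) (k : G₂ ⟶ G₁)
    (hgk : (DCoh.tildeD (CommRingCat.of R)).map g ≫ eP₁.hom = eP₂.hom ≫ (DCoh.Rpush f).map k) :
    Function.Injective (fun φ : P₁ ⟶ ωR⟦m⟧ => g ≫ φ) ↔
      Function.Injective (fun φ : G₁ ⟶ (DCoh.dualizingCx f h W)⟦m⟧ => k ≫ φ) := by
  let T := DCoh.tildeD (CommRingCat.of R)
  haveI := (OX.tildeD_full_faithful_essImage (R := CommRingCat.of R)).1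
  haveI := (OX.tildeD_full_faithful_essImage (R := CommRingCat.of R)).2.1
  let n : ℤ := -m
  let A₁ := (shiftEquiv' (Dual.D R) n m (by omega)).toAdjunction
  let A₄ := (shiftEquiv' (DCoh.D X) n m (by omega)).toAdjunction
  let σ := fun G : DCoh.D X => ((OX.rpushIsoRres f).app _ ≪≫ ((OX.RR f).commShiftIso n).app G ≪≫
    (shiftFunctor _ n).mapIso ((OX.rpushIsoRres f).app G).symm :
      (DCoh.Rpush f).obj (G⟦n⟧) ≅ ((DCoh.Rpush f).obj G)⟦n⟧)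
  have hσ : (DCoh.Rpush f).map (k⟦n⟧') ≫ (σ G₁).hom = (σ G₂).hom ≫ ((DCoh.Rpush f).map k)⟦n⟧' := by
    have h1 := (OX.rpushIsoRres f).hom.naturality (k⟦n⟧')
    have h2 := ((OX.RR f).commShiftIso n).hom.naturality k
    have h3 := (shiftFunctor (DCoh.D (Spec (CommRingCat.of R))) n).congr_map ((OX.rpushIsoRres f).inv.naturality k)
    simp only [Functor.map_comp] at h3
    show _ ≫ (_ ≫ _ ≫ _) = (_ ≫ _ ≫ _) ≫ _
    simp only [Category.assoc]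
    erw [reassoc_of% h1, reassoc_of% h2, h3]
    rfl
  let FF := Functor.FullyFaithful.ofFullyFaithful T
  let Φ : ∀ (P : Dual.D R) (G : DCoh.D X) (_ : DCoh.IsQCohD G) (_ : T.obj P ≅ (DCoh.Rpush f).obj G),
      (P ⟶ ωR⟦m⟧) ≃ (G ⟶ (DCoh.dualizingCx f h W)⟦m⟧) := fun P G hG eP =>
    let G' : DCoh.DQCoh X := ⟨G⟦n⟧, OX.isQCohD_shift hG n⟩
    (((A₁.homEquiv P ωR).symm.trans (FF.homEquiv.trans
      (Iso.homCongr ((T.commShiftIso n).app P ≪≫ (shiftFunctor _ n).mapIso eP ≪≫ (σ G).symm) eω.symm))).trans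
      ((homAddEquivFull _ ((DCoh.RpushQ f h).obj G') W).symm.toEquiv.trans
        (((DCoh.shriekAdj f h).homEquiv G' W).trans
          (homAddEquivFull _ G' ((DCoh.shriek f h).obj W)).toEquiv))).trans (A₄.homEquiv G _)
  have key : ∀ φ, Φ P₂ G₂ hG₂ eP₂ (g ≫ φ) = k ≫ Φ P₁ G₁ hG₁ eP₁ φ := fun φ => by
    let G₁' : DCoh.DQCoh X := ⟨G₁⟦n⟧, OX.isQCohD_shift hG₁ n⟩
    let G₂' : DCoh.DQCoh X := ⟨G₂⟦n⟧, OX.isQCohD_shift hG₂ n⟩
    let eQ₁ := (T.commShiftIso n).app P₁ ≪≫ (shiftFunctor _ n).mapIso eP₁ ≪≫ (σ G₁).symm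
    let eQ₂ := (T.commShiftIso n).app P₂ ≪≫ (shiftFunctor _ n).mapIso eP₂ ≪≫ (σ G₂).symm
    have hQ : T.map (g⟦n⟧') ≫ eQ₁.hom = eQ₂.hom ≫ (DCoh.Rpush f).map (k⟦n⟧') := by
      have e1 := (T.commShiftIso n).hom.naturality g
      have e2 := (shiftFunctor (DCoh.D (Spec (CommRingCat.of R))) n).congr_map hgk
      have e3 : ((DCoh.Rpush f).map k)⟦n⟧' ≫ (σ G₁).inv = (σ G₂).inv ≫ (DCoh.Rpush f).map (k⟦n⟧') := by
        rw [Iso.comp_inv_eq, Category.assoc, hσ, Iso.inv_hom_id_assoc]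
      simp only [Functor.map_comp] at e2
      show _ ≫ (_ ≫ _ ≫ (σ G₁).inv) = (_ ≫ _ ≫ (σ G₂).inv) ≫ _
      simp only [Category.assoc]
      erw [reassoc_of% e1, reassoc_of% e2, e3]
      rfl
    have e4 : eQ₂.inv ≫ T.map (g⟦n⟧') = (DCoh.Rpush f).map (k⟦n⟧') ≫ eQ₁.inv := by
      rw [Iso.inv_comp_eq, ← Category.assoc, Iso.eq_comp_inv, hQ]
    show (A₄.homEquiv _ _) ((DCoh.shriekAdj f h).homEquiv G₂' W (ObjectProperty.homMk (eQ₂.inv ≫ T.map ((A₁.homEquiv _ _).symm (g ≫ φ)) ≫ eω.inv))).hom =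
      k ≫ (A₄.homEquiv _ _) ((DCoh.shriekAdj f h).homEquiv G₁' W (ObjectProperty.homMk (eQ₁.inv ≫ T.map ((A₁.homEquiv _ _).symm φ) ≫ eω.inv))).hom
    rw [A₁.homEquiv_naturality_left_symm]
    have h₂ : eQ₂.inv ≫ T.map (g⟦n⟧' ≫ (A₁.homEquiv _ _).symm φ) ≫ eω.inv =
        (DCoh.Rpush f).map (k⟦n⟧') ≫ eQ₁.inv ≫ T.map ((A₁.homEquiv _ _).symm φ) ≫ eω.inv := by
      rw [Functor.map_comp, Category.assoc, reassoc_of% e4]
    refine (congrArg (fun z => (A₄.homEquiv _ _) ((DCoh.shriekAdj f h).homEquiv G₂' W (ObjectProperty.homMk z)).hom) h₂).trans ?_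
    have h₃ := (DCoh.shriekAdj f h).homEquiv_naturality_left
      (ObjectProperty.homMk (k⟦n⟧') : G₂' ⟶ G₁') (ObjectProperty.homMk (eQ₁.inv ≫ T.map ((A₁.homEquiv _ _).symm φ) ≫ eω.inv) :
        (DCoh.RpushQ f h).obj G₁' ⟶ W)
    refine (congrArg (fun z : G₂' ⟶ (DCoh.shriek f h).obj W => (A₄.homEquiv G₂ _) z.hom) h₃).trans ?_
    exact A₄.homEquiv_naturality_left k _
  have e : (fun φ => k ≫ φ) ∘ Φ P₁ G₁ hG₁ eP₁ = Φ P₂ G₂ hG₂ eP₂ ∘ (fun φ => g ≫ φ) :=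
    funext fun φ => (key φ).symm
  rw [← (Φ P₂ G₂ hG₂ eP₂).injective.of_comp_iff, ← e, Function.Injective.of_comp_iff' _ (Φ P₁ G₁ hG₁ eP₁).bijective]

end GrothLib.GlobDual22
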