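import Groth.Agent.Lib.GlobDual22.ModelNat

/-! The model of `Rf_*` and morphisms of K-injective complexes. -/

set_option autoImplicit false
set_option maxHeartbeats 1600000
set_option linter.style.haveILetI false
set_option backward.isDefEq.respectTransparency false

universe u

open CategoryTheory CategoryTheory.Limits AlgebraicGeometry

attribute [local instance] HasDerivedCategory.standard

noncomputable section

namespace GrothLib.GlobDual22

variable {R : CommRingCat.{u}} {X : Scheme.{u}} (f : X ⟶ Spec R) [PreservesFiniteLimits (tilde.functor R)] [DCoh.HasRpush f]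

theorem exists_model_hom [QuasiCompact f] [QuasiSeparated f] (K K' : CochainComplex X.Modules ℤ) [K.IsKInjective] [K'.IsKInjective]
    (hKq : ∀ n, (K.X n).IsQuasicoherent) (hKq' : ∀ n, (K'.X n).IsQuasicoherent) (g : K ⟶ K') :
    ∃ (e : (DCoh.tildeD R).obj (DerivedCategory.Q.obj ((secCx f).obj K)) ≅ (DCoh.Rpush f).obj (DerivedCategory.Q.obj K))
      (e' : (DCoh.tildeD R).obj (DerivedCategory.Q.obj ((secCx f).obj K')) ≅ (DCoh.Rpush f).obj (DerivedCategory.Q.obj K')),
      (DCoh.tildeD R).map (DerivedCategory.Q.map ((secCx f).map g)) ≫ e'.hom =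
        e.hom ≫ (DCoh.Rpush f).map (DerivedCategory.Q.map g) := by
  let q' := HomotopyCategory.quotient X.Modules (ComplexShape.up ℤ)
  haveI : IsIso ((KInj.resAdj X.Modules).unit.app (q'.obj K)) :=
    KInj.isIso_unit_of_rightOrthogonal (CochainComplex.IsKInjective.rightOrthogonal K)
  haveI : IsIso ((KInj.resAdj X.Modules).unit.app (q'.obj K')) :=
    KInj.isIso_unit_of_rightOrthogonal (CochainComplex.IsKInjective.rightOrthogonal K')
  let P := (Scheme.Modules.pushforward f).mapHomologicalComplex (ComplexShape.up ℤ)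
  let PK := (Scheme.Modules.pushforward f).mapHomotopyCategory (ComplexShape.up ℤ)
  let b : (KInj.res X.Modules).obj (DerivedCategory.Q.obj K) ≅ q'.obj K :=
    (KInj.res _).mapIso ((DerivedCategory.quotientCompQhIso _).app K).symm ≪≫
      (asIso ((KInj.resAdj X.Modules).unit.app (q'.obj K))).symm
  let b' : (KInj.res X.Modules).obj (DerivedCategory.Q.obj K') ≅ q'.obj K' :=
    (KInj.res _).mapIso ((DerivedCategory.quotientCompQhIso _).app K').symm ≪≫
      (asIso ((KInj.resAdj X.Modules).unit.app (q'.obj K'))).symm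
  have hb : (KInj.res X.Modules).map (DerivedCategory.Q.map g) ≫ b'.hom = b.hom ≫ q'.map g := by
    have h1 := (DerivedCategory.quotientCompQhIso X.Modules).inv.naturality g
    have h2 := (KInj.resAdj X.Modules).unit.naturality (q'.map g)
    dsimp [b, b'] at *
    rw [← Functor.map_comp_assoc, h1, Functor.map_comp_assoc, Category.assoc]
    congr 1
    rw [IsIso.eq_inv_comp, ← Category.assoc, IsIso.comp_inv_eq]
    exact h2.symm
  haveI := tilde.adjunction (R := R).right_adjoint_additive
  haveI hT : ∀ n, ((P.obj K).X n).IsQuasicoherent := fun n => haveI := hKq n; QCoh.isQuasicoherent_pushforward f _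
  let eT : ((tilde.functor R).mapHomologicalComplex (ComplexShape.up ℤ)).obj ((secCx f).obj K) ≅ P.obj K :=
    HomologicalComplex.Hom.isoOfComponents
      (fun n => haveI : IsIso ((P.obj K).X n).fromTildeΓ := Scheme.Modules.isIso_fromTildeΓ_of_isQuasicoherent _
        asIso ((P.obj K).X n).fromTildeΓ)
      (fun n m _ => ((Scheme.Modules.fromTildeΓNatTrans (R := R)).naturality ((P.obj K).d n m)).symm)
  let c : (DCoh.Rpush f).obj (DerivedCategory.Q.obj K) ≅ DerivedCategory.Q.obj (P.obj K) :=
    (OX.rpushIsoRres f).app (DerivedCategory.Q.obj K) ≪≫ DerivedCategory.Qh.mapIso (PK.mapIso b ≪≫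
        ((Scheme.Modules.pushforward f).mapHomotopyCategoryFactors (ComplexShape.up ℤ)).app K) ≪≫
      (DerivedCategory.quotientCompQhIso _).app (P.obj K)
  haveI hT' : ∀ n, ((P.obj K').X n).IsQuasicoherent := fun n => haveI := hKq' n; QCoh.isQuasicoherent_pushforward f _
  let eT' : ((tilde.functor R).mapHomologicalComplex (ComplexShape.up ℤ)).obj ((secCx f).obj K') ≅ P.obj K' :=
    HomologicalComplex.Hom.isoOfComponents
      (fun n => haveI : IsIso ((P.obj K').X n).fromTildeΓ := Scheme.Modules.isIso_fromTildeΓ_of_isQuasicoherent _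
        asIso ((P.obj K').X n).fromTildeΓ)
      (fun n m _ => ((Scheme.Modules.fromTildeΓNatTrans (R := R)).naturality ((P.obj K').d n m)).symm)
  let c' : (DCoh.Rpush f).obj (DerivedCategory.Q.obj K') ≅ DerivedCategory.Q.obj (P.obj K') :=
    (OX.rpushIsoRres f).app (DerivedCategory.Q.obj K') ≪≫ DerivedCategory.Qh.mapIso (PK.mapIso b' ≪≫
        ((Scheme.Modules.pushforward f).mapHomotopyCategoryFactors (ComplexShape.up ℤ)).app K') ≪≫
      (DerivedCategory.quotientCompQhIso _).app (P.obj K')
  have hTn : ((tilde.functor R).mapHomologicalComplex (ComplexShape.up ℤ)).map ((secCx f).map g) ≫ eT'.hom =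
      eT.hom ≫ P.map g := by
    ext n : 1
    exact (Scheme.Modules.fromTildeΓNatTrans (R := R)).naturality ((Scheme.Modules.pushforward f).map (g.f n))
  have hc : (DCoh.Rpush f).map (DerivedCategory.Q.map g) ≫ c'.hom = c.hom ≫ DerivedCategory.Q.map (P.map g) := by
    have h1 := (OX.rpushIsoRres f).hom.naturality (DerivedCategory.Q.map g)
    have h2 := DerivedCategory.Qh.congr_map (congrArg PK.map hb)
    have h3 := DerivedCategory.Qh.congr_map
      (((Scheme.Modules.pushforward f).mapHomotopyCategoryFactors (ComplexShape.up ℤ)).hom.naturality g)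
    have h4 := (DerivedCategory.quotientCompQhIso (Spec R).Modules).hom.naturality (P.map g)
    simp only [Functor.map_comp] at h2 h3
    show _ ≫ (_ ≫ (DerivedCategory.Qh.map (PK.map b'.hom ≫ _)) ≫ _) = (_ ≫ (DerivedCategory.Qh.map (PK.map b.hom ≫ _)) ≫ _) ≫ _
    simp only [Functor.map_comp, Category.assoc]
    erw [reassoc_of% h1, reassoc_of% h2, reassoc_of% h3, h4]
    rfl
  refine ⟨(tilde.functor R).mapDerivedCategoryFactors.app _ ≪≫ DerivedCategory.Q.mapIso eT ≪≫ c.symm,
    (tilde.functor R).mapDerivedCategoryFactors.app _ ≪≫ DerivedCategory.Q.mapIso eT' ≪≫ c'.symm, ?_⟩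
  have h5 := (tilde.functor R).mapDerivedCategoryFactors.hom.naturality ((secCx f).map g)
  have h6 := DerivedCategory.Q.congr_map hTn
  have h7 : DerivedCategory.Q.map (P.map g) ≫ c'.inv = c.inv ≫ (DCoh.Rpush f).map (DerivedCategory.Q.map g) := by
    rw [Iso.comp_inv_eq, Category.assoc, hc, Iso.inv_hom_id_assoc]
  simp only [Functor.map_comp] at h6
  show _ ≫ (_ ≫ DerivedCategory.Q.map eT'.hom ≫ c'.inv) = (_ ≫ DerivedCategory.Q.map eT.hom ≫ c.inv) ≫ _
  simp only [Category.assoc]
  erw [reassoc_of% h5, reassoc_of% h6, h7]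
  rfl

end GrothLib.GlobDual22
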