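import Groth.Agent.Lib.GlobDual22.Res2
import Groth.Agent.Lib.GlobDual22.ModelHom
import Groth.Agent.Lib.GlobDual22.AcycHomNat

/-! Local cohomology along the closed fibre through models, naturally. -/

set_option autoImplicit false
set_option maxHeartbeats 3200000
set_option linter.style.haveILetI false
set_option backward.isDefEq.respectTransparency false

universe u

open CategoryTheory CategoryTheory.Limits AlgebraicGeometry Opposite TopologicalSpace

attribute [local instance] HasDerivedCategory.standard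

noncomputable section

namespace GrothLib.GlobDual22

variable {R : CommRingCat.{u}} [IsNoetherianRing R] {X : Scheme.{u}} (f : X ⟶ Spec R)
  [QuasiCompact f] [QuasiSeparated f] [IsLocallyNoetherian X] (I : Ideal R)

/-- The augmentation. -/
abbrev augK {F : X.Modules} (Ri : InjectiveResolution F) : F ⟶ Ri.cochainComplex.X 0 :=
  Ri.ι.f 0 ≫ (Ri.cochainComplexXIso 0 0 rfl).inv

theorem resolution_exact {F : X.Modules} (Ri : InjectiveResolution F) :
    Mono (augK Ri) ∧ (∃ hde : augK Ri ≫ Ri.cochainComplex.d 0 1 = 0,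
      (ShortComplex.mk (augK Ri) (Ri.cochainComplex.d 0 1) hde).Exact) ∧
    ∀ p : ℕ, (ShortComplex.mk (Ri.cochainComplex.d (p : ℤ) (p + 1 : ℤ)) (Ri.cochainComplex.d (p + 1 : ℤ) (p + 1 + 1 : ℤ))
      (Ri.cochainComplex.d_comp_d _ _ _)).Exact := by
  let K := Ri.cochainComplex
  let e : F ⟶ K.X 0 := Ri.ι.f 0 ≫ (Ri.cochainComplexXIso 0 0 rfl).inv
  have hde : e ≫ K.d 0 1 = 0 := by
    rw [Ri.cochainComplex_d 0 1 0 1 rfl rfl, Category.assoc, Iso.inv_hom_id_assoc, ← Category.assoc,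
      Ri.ι_f_zero_comp_complex_d, zero_comp]
  have hex₀ : (ShortComplex.mk e (K.d 0 1) hde).Exact := by
    refine (ShortComplex.exact_iff_of_iso (ShortComplex.isoMk (S₁ := ShortComplex.mk e (K.d 0 1) hde)
      (S₂ := ShortComplex.mk _ _ Ri.ι_f_zero_comp_complex_d) (Iso.refl _) (Ri.cochainComplexXIso 0 0 rfl)
      (Ri.cochainComplexXIso 1 1 rfl) ?_ ?_)).2
      (ShortComplex.exact_of_f_is_kernel (ShortComplex.mk _ _ Ri.ι_f_zero_comp_complex_d) Ri.isLimitKernelFork)
    · simp [e]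
    · dsimp
      rw [Ri.cochainComplex_d 0 1 0 1 rfl rfl]
      simp
  have hexK : ∀ p : ℕ, (ShortComplex.mk (K.d (p : ℤ) (p + 1 : ℤ)) (K.d (p + 1 : ℤ) (p + 1 + 1 : ℤ))
      (K.d_comp_d _ _ _)).Exact := fun p => by
    refine (ShortComplex.exact_iff_of_iso (ShortComplex.isoMk (Ri.cochainComplexXIso (p : ℤ) p rfl)
      (Ri.cochainComplexXIso (p + 1 : ℤ) (p + 1) (by omega)) (Ri.cochainComplexXIso (p + 1 + 1 : ℤ) (p + 1 + 1) (by omega))
      ?_ ?_)).2 (Ri.exact_succ p)
    · dsimp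
      rw [Ri.cochainComplex_d (p : ℤ) (p + 1 : ℤ) p (p + 1) rfl (by omega)]
      simp
    · dsimp
      rw [Ri.cochainComplex_d (p + 1 : ℤ) (p + 1 + 1 : ℤ) (p + 1) (p + 1 + 1) (by omega) (by omega)]
      simp
  exact ⟨mono_comp _ _, ⟨hde, hex₀⟩, hexK⟩

theorem qcoh_resolution (F : X.Modules) [F.IsQuasicoherent] (n : ℤ) :
    ((CohExtend20.resolution F).cochainComplex.X n).IsQuasicoherent := by
  by_cases h : 0 ≤ n
  · obtain ⟨m, rfl⟩ := Int.eq_ofNat_of_zero_le h
    exact OX.isQCoh_of_iso ((CohExtend20.resolution F).cochainComplexXIso (m : ℤ) m rfl).symm (CohExtend20.qcoh_seq F m).1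
  · exact OX.isQCoh_of_isZero ((CohExtend20.resolution F).cochainComplex.isZero_of_isStrictlyGE 0 n (by omega))

theorem surjective_HZM_map_iff_homology {F F' : X.Modules} [F.IsQuasicoherent] [F'.IsQuasicoherent] (a : F ⟶ F')
    (φ : InjectiveResolution.Hom (CohExtend20.resolution F) (CohExtend20.resolution F') a) (i : ℕ) :
    Function.Surjective (LocCohZ.map (X := X.carrier) ((QCoh.toAbFun X).map a) i (le_top : offZ f I ≤ ⊤)) ↔
      Function.Surjective (HomologicalComplex.homologyMap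
        (((DRing.gammaI I).mapHomologicalComplex (ComplexShape.up ℤ)).map ((secCx f).map φ.hom')) (i : ℤ)) := by
  haveI : EnoughInjectives X.Modules := SheafCoh.enoughInjectives_sheafOfModules X.ringCatSheaf
  let K := (CohExtend20.resolution F).cochainComplex
  let K' := (CohExtend20.resolution F').cochainComplex
  let Ab := QCoh.toAbFun X
  let Z := LocCohZ.zq (X := X.carrier) (le_top : offZ f I ≤ ⊤)
  obtain ⟨_, ⟨hde, hex⟩, hexK⟩ := resolution_exact (CohExtend20.resolution F)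
  obtain ⟨_, ⟨hde', hex'⟩, hexK'⟩ := resolution_exact (CohExtend20.resolution F')
  haveI : PreservesFiniteLimits Ab := inferInstance
  haveI : PreservesFiniteColimits Ab := inferInstance
  let e := augK (CohExtend20.resolution F)
  let e' := augK (CohExtend20.resolution F')
  haveI : Mono (Ab.map e) := inferInstance
  haveI : Mono (Ab.map e') := inferInstance
  haveI : ∀ p : ℕ, (K.X (p : ℤ)).IsQuasicoherent := fun p => qcoh_resolution F _
  haveI : ∀ p : ℕ, (K'.X (p : ℤ)).IsQuasicoherent := fun p => qcoh_resolution F' _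
  have hab : Ab.map a ≫ Ab.map e' = Ab.map e ≫ Ab.map (φ.hom'.f 0) := by
    rw [← Functor.map_comp, ← Functor.map_comp]
    congr 1
    simp [e, e', augK, InjectiveResolution.Hom.hom'_f φ 0 0 rfl]
  have hz : ∀ (K₀ : CochainComplex X.Modules ℤ), K₀.IsStrictlyGE 0 →
      Subsingleton ((RGamma.gammaCx I ((secCx f).obj K₀)).X (-1)) := fun K₀ _ =>
    ModuleCat.subsingleton_of_isZero ((DRing.gammaI I).map_isZero ((secR f).map_isZero (K₀.isZero_of_isStrictlyGE 0 (-1) (by omega))))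
  have hJ : ∀ (J : X.Modules) [Injective J] (n : ℕ), Subsingleton (Abelian.Ext.{u} Z (Ab.obj J) (n + 1)) := fun J _ n =>
    haveI := Cohom.isFlasque_toAb_of_injective J
    (Groth.Agent.S6023.result (Ab.obj J)).1 _ _ (le_top : offZ f I ≤ ⊤) (n + 1) n.succ_pos
  let τ : ∀ p : ℕ, (Z ⟶ Ab.obj (K.X (p : ℤ))) ≃+ (RGamma.gammaCx I ((secCx f).obj K)).X (p : ℤ) :=
    fun p => zTors f I (K.X (p : ℤ))
  let τ' : ∀ p : ℕ, (Z ⟶ Ab.obj (K'.X (p : ℤ))) ≃+ (RGamma.gammaCx I ((secCx f).obj K')).X (p : ℤ) :=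
    fun p => zTors f I (K'.X (p : ℤ))
  exact surjective_ext_iff_homology (Z := Z) (Ab.map a) (fun p => Ab.obj (K.X (p : ℤ))) (fun p => Ab.obj (K'.X (p : ℤ)))
    (fun p => Ab.map (K.d (p : ℤ) ((p + 1 : ℕ) : ℤ))) (fun p => Ab.map (K'.d (p : ℤ) ((p + 1 : ℕ) : ℤ)))
    (fun p => Ab.map (φ.hom'.f (p : ℤ))) (fun p => by rw [← Functor.map_comp, ← Functor.map_comp, φ.hom'.comm])
    (Ab.map e) (Ab.map e') hab
    (fun p => by rw [← Functor.map_comp, K.d_comp_d, Functor.map_zero])
    (fun p => by rw [← Functor.map_comp, K'.d_comp_d, Functor.map_zero])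
    (by rw [← Functor.map_comp]; exact (congrArg Ab.map hde).trans (Ab.map_zero _ _))
    (by rw [← Functor.map_comp]; exact (congrArg Ab.map hde').trans (Ab.map_zero _ _))
    (hex.map Ab) (hex'.map Ab) (fun p => (hexK p).map Ab) (fun p => (hexK' p).map Ab)
    (fun p n => hJ _ n) (fun p n => hJ _ n) _ _ (hz K inferInstance) (hz K' inferInstance) τ τ'
    (fun p ψ => Subtype.ext (zTors_comp f I (K.d (p : ℤ) ((p + 1 : ℕ) : ℤ)) ψ))
    (fun p ψ => Subtype.ext (zTors_comp f I (K'.d (p : ℤ) ((p + 1 : ℕ) : ℤ)) ψ))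
    (((DRing.gammaI I).mapHomologicalComplex (ComplexShape.up ℤ)).map ((secCx f).map φ.hom'))
    (fun p ψ => Subtype.ext (zTors_comp f I (φ.hom'.f (p : ℤ)) ψ)) i

end GrothLib.GlobDual22
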