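import Groth.Agent.Lib.PointSky29.Vanish
import Groth.Agent.Lib.PointSky29.Ring
import Groth.Agent.Lib.DerCat.FFAdj19
import Groth.Agent.Lib.OX.PullbackKFlat
import Groth.Agent.Lib.QCoh.Support
import Groth.Agent.Lib.QCoh.AvoidSub

/-!
# The derived stalk and the skyscraper (after PointSky29, with fewer imports)
-/

set_option autoImplicit false
set_option maxHeartbeats 800000
set_option linter.style.haveILetI false
set_option backward.isDefEq.respectTransparency false

universe u

open CategoryTheory CategoryTheory.Limits AlgebraicGeometry Opposite TopologicalSpace IsLocalRing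
open CategoryTheory.Pretriangulated DerivedCategory

noncomputable section

attribute [local instance] HasDerivedCategory.standard

namespace GrothLib.GlobDual22

open GrothLib.PointSky29 (kap)

variable {X : Scheme.{u}} (x : X)

instance : PreservesFiniteLimits (OX.sky x) := KFlatStalk22.preservesFiniteLimits_sky x

/-- The derived stalk. -/
abbrev Ld : DCoh.D X ⥤ Dual.D (X.presheaf.stalk x) := (OX.stalk x).mapDerivedCategory

/-- The derived skyscraper. -/
abbrev Rd : Dual.D (X.presheaf.stalk x) ⥤ DCoh.D X := (OX.sky x).mapDerivedCategory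

/-- The adjunction. -/
def dAdj : Ld x ⊣ Rd x := GrothLib.DerCat.mapDerivedAdj (OX.stalkSkyAdj x)

theorem nonempty_HD_Ld_iso (K : DCoh.D X) (i : ℤ) :
    Nonempty ((homologyFunctor _ i).obj ((Ld x).obj K) ≅ (OX.stalk x).obj (DCoh.HD K i)) := by
  let E := DerivedCategory.Q.objPreimage K
  let e : DerivedCategory.Q.obj E ≅ K := DerivedCategory.Q.objObjPreimageIso K
  exact ⟨(homologyFunctor _ i).mapIso ((Ld x).mapIso e.symm) ≪≫
    DerCat19.homologyMapDerivedIso (OX.stalk x) E i ≪≫
    (OX.stalk x).mapIso (((DerivedCategory.homologyFunctorFactors X.Modules i).app E).symm ≪≫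
      (homologyFunctor X.Modules i).mapIso e)⟩

theorem isZero_HD_Ld_iff (K : DCoh.D X) (i : ℤ) :
    IsZero ((homologyFunctor _ i).obj ((Ld x).obj K)) ↔ x ∉ CohB1.support (DCoh.HD K i) := by
  obtain ⟨e⟩ := nonempty_HD_Ld_iso x K i
  rw [e.isZero_iff, ModuleCat.isZero_iff_subsingleton]
  simp only [CohB1.support, Set.mem_setOf_eq, not_not]
  exact Iff.rfl

theorem isLE_Ld (K : DCoh.D X) (b : ℤ) [K.IsLE b] : ((Ld x).obj K).IsLE b := by
  rw [DerivedCategory.isLE_iff]
  intro i hi
  obtain ⟨e⟩ := nonempty_HD_Ld_iso x K i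
  exact ((OX.stalk x).map_isZero (DerivedCategory.isZero_of_isLE K b i hi)).of_iso e

theorem isGE_Ld (K : DCoh.D X) (a : ℤ) [K.IsGE a] : ((Ld x).obj K).IsGE a := by
  rw [DerivedCategory.isGE_iff]
  intro i hi
  obtain ⟨e⟩ := nonempty_HD_Ld_iso x K i
  exact ((OX.stalk x).map_isZero (DerivedCategory.isZero_of_isGE K a i hi)).of_iso e

theorem finite_HD_Ld [IsLocallyNoetherian X] (K : DCoh.D X) (hK : DCoh.IsCohD K) (i : ℤ) :
    Module.Finite (X.presheaf.stalk x) (Dual.HD (X.presheaf.stalk x) ((Ld x).obj K) i) := by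
  obtain ⟨e⟩ := nonempty_HD_Ld_iso x K i
  haveI : Module.Finite (X.presheaf.stalk x) ((OX.stalk x).obj (DCoh.HD K i)) :=
    QCoh.stalk_finite _ (hK i) x
  exact Module.Finite.equiv e.symm.toLinearEquiv

/-- The value of the derived skyscraper on a module. -/
def RdSingleIso (N : ModuleCat.{u} (X.presheaf.stalk x)) (j : ℤ) :
    (Rd x).obj (((DerivedCategory.singleFunctor (ModuleCat.{u} (X.presheaf.stalk x)) 0).obj N)⟦j⟧) ≅
      (DCoh.inD X ((OX.sky x).obj N))⟦j⟧ :=
  ((Rd x).commShiftIso j).app _ ≪≫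
    (shiftFunctor _ j).mapIso (((OX.sky x).mapDerivedCategorySingleFunctor 0).app N)

theorem nonempty_Ld_sky_iso (N : ModuleCat.{u} (X.presheaf.stalk x)) :
    Nonempty ((Ld x).obj (DCoh.inD X ((OX.sky x).obj N)) ≅
      (DerivedCategory.singleFunctor (ModuleCat.{u} (X.presheaf.stalk x)) 0).obj N) := by
  haveI : IsIso ((OX.stalkSkyAdj x).counit.app N) :=
    (ConcreteCategory.isIso_iff_bijective _).2 (KFlatStalk22.bijective_counit x N)
  exact ⟨((OX.stalk x).mapDerivedCategorySingleFunctor 0).app _ ≪≫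
    (DerivedCategory.singleFunctor _ 0).mapIso (asIso ((OX.stalkSkyAdj x).counit.app N))⟩
theorem isLE_Rd (M : Dual.D (X.presheaf.stalk x)) (b : ℤ) [M.IsLE b] : ((Rd x).obj M).IsLE b := by
  rw [DerivedCategory.isLE_iff]
  intro i hi
  let E := DerivedCategory.Q.objPreimage M
  let e : DerivedCategory.Q.obj E ≅ M := DerivedCategory.Q.objObjPreimageIso M
  exact ((OX.sky x).map_isZero (((DerivedCategory.isZero_of_isLE M b i hi)).of_iso
      (((DerivedCategory.homologyFunctorFactors _ i).app E).symm ≪≫ (homologyFunctor _ i).mapIso e))).of_iso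
    ((homologyFunctor _ i).mapIso ((Rd x).mapIso e.symm) ≪≫ DerCat19.homologyMapDerivedIso (OX.sky x) E i)

theorem isGE_Rd (M : Dual.D (X.presheaf.stalk x)) (a : ℤ) [M.IsGE a] : ((Rd x).obj M).IsGE a := by
  rw [DerivedCategory.isGE_iff]
  intro i hi
  let E := DerivedCategory.Q.objPreimage M
  let e : DerivedCategory.Q.obj E ≅ M := DerivedCategory.Q.objObjPreimageIso M
  exact ((OX.sky x).map_isZero (((DerivedCategory.isZero_of_isGE M a i hi)).of_iso
      (((DerivedCategory.homologyFunctorFactors _ i).app E).symm ≪≫ (homologyFunctor _ i).mapIso e))).of_iso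
    ((homologyFunctor _ i).mapIso ((Rd x).mapIso e.symm) ≪≫ DerCat19.homologyMapDerivedIso (OX.sky x) E i)



/-- The point sheaf. -/
theorem nonempty_point_sky (hx : IsClosed ({x} : Set X)) :
    Nonempty ((Coh.push (X.fromSpecResidueField x)).obj (Coh.structureModule _) ≅ (OX.sky x).obj (kap x)) :=
  PointSky29.nonempty_point_iso (Field.toIsField _) (X.fromSpecResidueField x)
    ((X.fromSpecResidueField x).stalkMap_surjective _) x (X.fromSpecResidueField_apply x _) hx

end GrothLib.GlobDual22
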