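import Groth.Agent.Lib.GlobDual22.Alg
import Groth.Agent.Lib.GlobDual22.Pt

/-! A nonzero map from the point sheaf into a shifted dualizing sheaf. -/

set_option autoImplicit false
set_option maxHeartbeats 1600000
set_option linter.style.haveILetI false
set_option backward.isDefEq.respectTransparency false

universe u

open CategoryTheory CategoryTheory.Limits AlgebraicGeometry IsLocalRing
open CategoryTheory.Pretriangulated DerivedCategory

attribute [local instance] HasDerivedCategory.standard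

noncomputable section

namespace GrothLib.GlobDual22

open GrothLib.PointSky29 (kap hom_eq_zero)

variable {X : Scheme.{u}} [IsLocallyNoetherian X] {x : X}

theorem subsingleton_local_of_global (hx : IsClosed ({x} : Set X)) (K : DCoh.D X) (a b : ℤ) [K.IsGE a] [K.IsLE b] (i : ℤ)
    (h : Subsingleton (DCoh.inD X ((OX.sky x).obj (kap x)) ⟶ K⟦i⟧)) :
    Subsingleton (Dual.inD (X.presheaf.stalk x) (ResidueField (X.presheaf.stalk x)) ⟶ ((Ld x).obj K)⟦i⟧) := by
  haveI := isLE_Ld x K b
  haveI := isGE_Ld x K a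
  obtain ⟨C, p, q, hT⟩ := distinguished_cocone_triangle ((dAdj x).unit.app K)
  let T := Triangle.mk ((dAdj x).unit.app K) p q
  haveI : IsIso (OX.stalkSkyAdj x).counit := by
    haveI : ∀ N, IsIso ((OX.stalkSkyAdj x).counit.app N) := fun N =>
      (ConcreteCategory.isIso_iff_bijective _).2 (KFlatStalk22.bijective_counit x N)
    exact NatIso.isIso_of_isIso_app _
  haveI : IsIso (dAdj x).counit :=
    (dAdj x).isIso_counit_of_iso (DerCat19.mapDerivedCompIdIso (OX.sky x) (OX.stalk x) (asIso (OX.stalkSkyAdj x).counit))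
  haveI : IsIso ((Ld x).map ((dAdj x).unit.app K)) := by
    haveI : IsIso ((Ld x).map ((dAdj x).unit.app K) ≫ (dAdj x).counit.app ((Ld x).obj K)) := by
      rw [(dAdj x).left_triangle_components K]
      exact inferInstanceAs (IsIso (𝟙 _))
    exact IsIso.of_isIso_comp_right _ ((dAdj x).counit.app ((Ld x).obj K))
  have hC0 : IsZero ((Ld x).obj C) :=
    Triangle.isZero₃_of_isIso₁ ((Ld x).mapTriangle.obj T) ((Ld x).map_distinguished T hT)
      (inferInstanceAs (IsIso ((Ld x).map ((dAdj x).unit.app K))))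
  have hC : ∀ j, IsZero ((OX.stalk x).obj (DCoh.HD C j)) := fun j => by
    obtain ⟨e⟩ := nonempty_HD_Ld_iso x C j
    exact ((homologyFunctor _ j).map_isZero hC0).of_iso e.symm
  haveI hge : C.IsGE (a - 1) := by
    haveI := isGE_Rd x ((Ld x).obj K) a
    refine TStructure.t.isGE₂ T.rotate (rot_of_distTriang T hT) (a - 1)
      (TStructure.t.isGE_of_ge ((Rd x).obj ((Ld x).obj K)) (a - 1) a (by omega)) ?_
    exact TStructure.t.isGE_shift K a 1 (a - 1) (by omega)
  haveI hle : C.IsLE b := by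
    haveI := isLE_Rd x ((Ld x).obj K) b
    refine TStructure.t.isLE₂ T.rotate (rot_of_distTriang T hT) b
      (inferInstanceAs (DerivedCategory.IsLE ((Rd x).obj ((Ld x).obj K)) b)) ?_
    haveI : TStructure.t.IsLE (K⟦(1 : ℤ)⟧) (b - 1) :=
      TStructure.t.isLE_shift K b 1 (b - 1) (by omega)
    exact TStructure.t.isLE_of_le (K⟦(1 : ℤ)⟧) (b - 1) b (by omega)
  obtain ⟨e⟩ := nonempty_Ld_sky_iso x (kap x)
  refine subsingleton_of_forall_eq 0 fun χ => ?_
  let φ := (dAdj x).homEquiv (DCoh.inD X ((OX.sky x).obj (kap x))) (((Ld x).obj K)⟦i⟧) (e.hom ≫ χ) ≫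
    ((Rd x).commShiftIso i).hom.app ((Ld x).obj K)
  obtain ⟨ψ, hψ⟩ := Triangle.coyoneda_exact₂ _ (Triangle.shift_distinguished T hT i) φ
    ((hom_eq_zero hx C (a - 1) b hC i _).trans rfl)
  have hφ : φ = 0 := by
    rw [hψ, show ψ = 0 from Subsingleton.elim (h := h) _ _]
    exact zero_comp
  have h1 : (dAdj x).homEquiv (DCoh.inD X ((OX.sky x).obj (kap x))) (((Ld x).obj K)⟦i⟧) (e.hom ≫ χ) = 0 := by
    rw [← cancel_mono (((Rd x).commShiftIso i).hom.app ((Ld x).obj K)), zero_comp]
    exact hφ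
  rw [← cancel_epi e.hom, comp_zero, ← ((dAdj x).homEquiv _ _).symm_apply_apply (e.hom ≫ χ), h1,
    Adjunction.homEquiv_counit, Functor.map_zero, zero_comp]

theorem not_subsingleton_point_hom (hx : IsClosed ({x} : Set X)) (K : DCoh.D X) (d : ℤ)
    (hK : ∀ i, i ≠ d → IsZero (DCoh.HD K i)) (hcoh : Coh.IsCoh (DCoh.HD K d))
    (hnt : Nontrivial ((DCoh.HD K d).presheaf.stalk x)) (hCM : LocCoh.IsCohenMacaulayLocalRing (X.presheaf.stalk x))
    (n : ℕ) (hn : ringKrullDim (X.presheaf.stalk x) = (n : WithBot ℕ∞)) :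
    ¬ Subsingleton (DCoh.inD X ((OX.sky x).obj (kap x)) ⟶ K⟦d + (n : ℤ)⟧) := by
  haveI hge : K.IsGE d := (DerivedCategory.isGE_iff _ _).2 fun i hi => hK i (by omega)
  haveI hle : K.IsLE d := (DerivedCategory.isLE_iff _ _).2 fun i hi => hK i (by omega)
  intro h
  have hloc := subsingleton_local_of_global hx K d d (d + (n : ℤ)) h
  haveI := isGE_Ld x K d
  haveI := isLE_Ld x K d
  obtain ⟨H, ⟨eH⟩⟩ := DerivedCategory.exists_iso_singleFunctor_obj_of_isGE_of_isLE ((Ld x).obj K) d
  let eS : H ≅ (OX.stalk x).obj (DCoh.HD K d) :=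
    ((DerivedCategory.singleFunctorCompHomologyFunctorIso _ d).app H).symm ≪≫
      (DerivedCategory.homologyFunctor _ d).mapIso eH.symm ≪≫ (nonempty_HD_Ld_iso x K d).some
  haveI : Module.Finite (X.presheaf.stalk x) ((OX.stalk x).obj (DCoh.HD K d)) := QCoh.stalk_finite _ hcoh x
  haveI : Module.Finite (X.presheaf.stalk x) H := Module.Finite.equiv eS.toLinearEquiv.symm
  haveI : Nontrivial H := eS.toLinearEquiv.toEquiv.nontrivial_congr.2 hnt
  haveI := hCM
  have hne := nontrivial_ext_residue (A := X.presheaf.stalk x) hn H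
  let F := DerivedCategory.singleFunctors (ModuleCat.{u} (X.presheaf.stalk x))
  let e₁ : ((Ld x).obj K)⟦d + (n : ℤ)⟧ ≅
      ((DerivedCategory.singleFunctor (ModuleCat.{u} (X.presheaf.stalk x)) 0).obj H)⟦(n : ℤ)⟧ :=
    (shiftFunctorAdd' _ d (n : ℤ) _ rfl).app _ ≪≫ (shiftFunctor _ (n : ℤ)).mapIso
      ((shiftFunctor _ d).mapIso eH ≪≫ (F.shiftIso d 0 d (by omega)).app H)
  have : Subsingleton (Abelian.Ext.{u} (ModuleCat.of (X.presheaf.stalk x) (ResidueField (X.presheaf.stalk x))) H n) :=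
    (Abelian.Ext.homEquiv.trans (Iso.homCongr (Iso.refl _) e₁.symm)).subsingleton
  exact not_nontrivial_iff_subsingleton.2 this hne

end GrothLib.GlobDual22
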