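import Groth.Agent.Lib.GlobDual22.Res
import Groth.Agent.Lib.GlobDual22.Point
import Groth.Agent.Lib.RpushSupp20.Main
import Groth.Agent.Lib.FMK22.PhiShift
import Groth.Agent.Lib.DualCx22.LocalCohD
import Groth.Agent.Lib.DualRing.Shift
import Groth.Agent.Lib.RightAdj20.RatTrace
import Groth.Agent.Lib.DualRing.SchemeLocus
import Groth.Agent.Lib.Chev28.IrredDim
import Groth.Agent.Lib.InjMod.Essential
import Groth.Agent.Lib.PushKR17.Acy
import Groth.Agent.Lib.OX.HomVanish

/-! Global duality on a Cohen–Macaulay scheme proper over a local ring, vanishing form. -/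

set_option autoImplicit false
set_option maxHeartbeats 1600000
set_option linter.style.haveILetI false
set_option backward.isDefEq.respectTransparency false

universe u

open CategoryTheory CategoryTheory.Limits AlgebraicGeometry IsLocalRing

attribute [local instance] HasDerivedCategory.standard

noncomputable section

namespace GrothLib.GlobDual22

theorem exists_closed_point_dim {X : Scheme.{u}} (n : ℕ) (hn : topologicalKrullDim X = (n : WithBot ℕ∞)) :
    ∃ x : X, IsClosed ({x} : Set X) ∧ ringKrullDim (X.presheaf.stalk x) = (n : WithBot ℕ∞) := by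
  have hsup := (Chev28.dim_eq_iSup_stalk X).symm.trans hn
  obtain ⟨x, hx⟩ : ∃ x : X, (n : WithBot ℕ∞) ≤ ringKrullDim (X.presheaf.stalk x) := by
    rcases Nat.eq_zero_or_pos n with rfl | hpos
    · haveI : Nonempty X := by
        by_contra h
        rw [not_nonempty_iff] at h
        rw [iSup_of_empty] at hsup
        exact absurd hsup (by simp)
      exact ⟨Classical.arbitrary X, ringKrullDim_nonneg_of_nontrivial⟩
    · by_contra h
      push_neg at h
      have hle : ⨆ z : X, ringKrullDim (X.presheaf.stalk z) ≤ ((n - 1 : ℕ) : WithBot ℕ∞) := iSup_le fun z => by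
        have hz := h z
        rw [ringKrullDim_stalk_eq_coheight] at hz ⊢
        have hz' : Order.coheight z < (n : ℕ∞) := by exact_mod_cast hz
        obtain ⟨c, hc⟩ := ENat.ne_top_iff_exists.1 hz'.ne_top
        rw [← hc] at hz' ⊢
        have hc' : c ≤ n - 1 := by have : c < n := (by exact_mod_cast hz'); omega
        show (((c : ℕ) : ℕ∞) : WithBot ℕ∞) ≤ (((n - 1 : ℕ) : ℕ∞) : WithBot ℕ∞)
        exact WithBot.coe_le_coe.2 (by exact_mod_cast hc')
      rw [hsup] at hle
      have : n ≤ n - 1 := by exact_mod_cast hle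
      omega
  have heq : ringKrullDim (X.presheaf.stalk x) = (n : WithBot ℕ∞) := le_antisymm ((Chev28.dim_stalk_le_dim x).trans hn.le) hx
  refine ⟨x, isClosed_of_closure_subset fun y hy => ?_, heq⟩
  have hyx : y ≤ x := specializes_iff_mem_closure.2 hy
  have hxy : x ≤ y := by
    by_contra hne
    have hlt : y < x := lt_of_le_not_ge hyx hne
    have hy' := (Chev28.dim_stalk_le_dim y).trans hn.le
    rw [ringKrullDim_stalk_eq_coheight] at hy' heq
    have h1 : Order.coheight x = (n : ℕ∞) := by exact_mod_cast heq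
    have h2 : Order.coheight y ≤ (n : ℕ∞) := by exact_mod_cast hy'
    have h3 := Order.coheight_add_one_le hlt
    rw [h1] at h3
    have h4 := h3.trans h2
    have : n + 1 ≤ n := by exact_mod_cast h4
    omega
  exact (Specializes.antisymm (show x ⤳ y from specializes_iff_mem_closure.2 hy) hxy).eq.symm

theorem isFlasque_sky {X : Scheme.{u}} (x : X) (N : ModuleCat.{u} (X.presheaf.stalk x)) :
    TopCat.Sheaf.IsFlasque (Coh.toAb ((OX.sky x).obj N)) := by
  refine ⟨fun {U V} i => (AddCommGrpCat.epi_iff_surjective _).2 fun (m : OX.SkySec x N V) => ?_⟩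
  classical
  refine ⟨(fun _ => if h : x ∈ V.unop then m ⟨h⟩ else 0 : OX.SkySec x N U), funext fun h => ?_⟩
  show (if h : x ∈ V.unop then m ⟨h⟩ else 0) = m h
  rw [dif_pos h.down]

theorem isCoh_sky_point {X : Scheme.{u}} [IsLocallyNoetherian X] {x : X} (hx : IsClosed ({x} : Set X)) :
    Coh.IsCoh ((OX.sky x).obj (PointSky29.kap x)) := by
  haveI : IsClosedImmersion (X.fromSpecResidueField x) := isClosed_singleton_iff_isClosedImmersion.1 hx
  exact QCoh.isCoh_of_iso (nonempty_point_sky x hx).some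
    (PushKR17.isCoh_push (X.fromSpecResidueField x) (HomSh.isCoh_structureModule _))

variable {R : Type u} [CommRing R] [IsNoetherianRing R] [IsLocalRing R] {X : Scheme.{u}}
  (f : X ⟶ Spec (CommRingCat.of R)) [IsProper f] [PreservesFiniteLimits (tilde.functor (CommRingCat.of R))]
  [DCoh.HasRpush f] (h : DCoh.RpushPreservesQCoh f) [DCoh.HasShriek f h]
  {ωR : Dual.D R} (hω : Dual.IsDualizing R ωR)
  (W : DCoh.DQCoh (Spec (CommRingCat.of R))) (hW : Nonempty (W.obj ≅ (DCoh.tildeD (CommRingCat.of R)).obj ωR))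

theorem finite_model {P : Dual.D R} {F : X.Modules} (hF : Coh.IsCoh F)
    (eP : (DCoh.tildeD (CommRingCat.of R)).obj P ≅ (DCoh.Rpush f).obj (DCoh.inD X F)) (j : ℤ) :
    Module.Finite R (Dual.HD R P j) := by
  haveI : IsLocallyNoetherian X := LocallyOfFiniteType.isLocallyNoetherian f
  have hsup : RpushSupp20.properP f F := by
    haveI : IsProper (𝟙 X ≫ f) := by rw [Category.id_comp]; infer_instance
    exact ⟨hF, ProperOver.isProperOver_of_closedImmersion f (𝟙 X) (QCoh.isClosed_support_of_isCoh hF)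
      (fun x _ => ⟨x, rfl⟩)⟩
  haveI := RpushSupp20.isWeakSerre_properP f
  have hc := (RpushSupp20.isCohD_Rpush f (DCoh.inD X F) 0 (DerTrunc.cohIn_single (RpushSupp20.properP f) hsup 0)).1
  let e' : DCoh.HD ((DCoh.Rpush f).obj (DCoh.inD X F)) j ≅
      (tilde.functor (CommRingCat.of R)).obj ((DerivedCategory.homologyFunctor (ModuleCat.{u} R) j).obj P) :=
    (DerivedCategory.homologyFunctor _ j).mapIso eP.symm ≪≫ OX.HDTildeIso (R := CommRingCat.of R) P j
  exact (OX.isCoh_tilde_iff (R := CommRingCat.of R) _).1 (QCoh.isCoh_of_iso e' (hc j))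

omit [IsLocalRing R] in
theorem shift_back {P ω : Dual.D R} (m : ℤ) : Nonempty ((P ⟶ ω⟦m⟧) ≃ (P⟦-m⟧ ⟶ ω)) :=
  ⟨((shiftEquiv' (Dual.D R) (-m) m (by omega)).toAdjunction.homEquiv P ω).symm⟩

omit [IsNoetherianRing R] [IsLocalRing R] [IsProper f] in
theorem shift_X (K G : DCoh.D X) (m : ℤ) : Nonempty ((G⟦-m⟧ ⟶ K) ≃ (G ⟶ K⟦m⟧)) :=
  ⟨(shiftEquiv' (DCoh.D X) (-m) m (by omega)).toAdjunction.homEquiv G K⟩

omit [IsNoetherianRing R] [IsLocalRing R] in
theorem adj_equiv (W' : DCoh.DQCoh (Spec (CommRingCat.of R))) (G : DCoh.D X) (hG : DCoh.IsQCohD G) :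
    Nonempty (((DCoh.Rpush f).obj G ⟶ W'.obj) ≃ (G ⟶ DCoh.dualizingCx f h W')) :=
  ⟨((ObjectProperty.fullyFaithfulι _).homEquiv (X := (DCoh.RpushQ f h).obj ⟨G, hG⟩) (Y := W')).symm.trans
    (((DCoh.shriekAdj f h).homEquiv ⟨G, hG⟩ W').trans
      ((ObjectProperty.fullyFaithfulι _).homEquiv (X := ⟨G, hG⟩) (Y := (DCoh.shriek f h).obj W')))⟩

omit [IsLocalRing R] in
theorem tilde_equiv {Q ω : Dual.D R} {A B : DCoh.D (Spec (CommRingCat.of R))}
    (eQ : (DCoh.tildeD (CommRingCat.of R)).obj Q ≅ A) (eω : (DCoh.tildeD (CommRingCat.of R)).obj ω ≅ B) :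
    Nonempty ((Q ⟶ ω) ≃ (A ⟶ B)) := by
  haveI := (OX.tildeD_full_faithful_essImage (R := CommRingCat.of R)).1
  haveI := (OX.tildeD_full_faithful_essImage (R := CommRingCat.of R)).2.1
  exact ⟨(Functor.FullyFaithful.ofFullyFaithful (DCoh.tildeD (CommRingCat.of R))).homEquiv.trans (Iso.homCongr eQ eω)⟩

theorem subsingleton_HDI_iff {P : Dual.D R} (hfin : ∀ j, Module.Finite R (Dual.HD R P j))
    {ω : Dual.D R} (hω' : Dual.IsDualizing R ω) (q : ℤ) :
    Subsingleton (Dual2.HDI R (maximalIdeal R) P q) ↔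
      Subsingleton (P ⟶ ω⟦DualRing.deg hω' (maximalIdeal R) - q⟧) := by
  obtain ⟨E, _, _, ι, hE⟩ := InjMod.exists_injective_hull (R := R) (ResidueField R)
  let t := DualRing.deg hω' (maximalIdeal R)
  obtain ⟨a⟩ := DualCx22.nonempty_local_duality (DualRing.isDualizing_shift hω' t) (DualRing.isNormalized_shift hω') hE P hfin q
  obtain ⟨N, -, ⟨eN⟩⟩ := DualCx22.exists_finite_hom_equiv (DualRing.isDualizing_shift hω' t) P hfin (-q)
  rw [a.toEquiv.subsingleton_congr, (eN.congrLeft E R).symm.toEquiv.subsingleton_congr,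
    DualCx22.subsingleton_dual_iff hE N, eN.toEquiv.subsingleton_congr]
  exact (Iso.homCongr (Iso.refl P) ((shiftFunctorAdd' (Dual.D R) t (-q) (t - q) (by omega)).app ω).symm).subsingleton_congr

include hω hW

/-- The open complement of the closed fibre. -/
abbrev offClosed : X.Opens := f ⁻¹ᵁ (LocCoh.puncturedOpen R (IsLocalRing.maximalIdeal R))

theorem duality_vanish (F : X.Modules) (hF : Coh.IsCoh F) :
    (∀ i : ℕ, Subsingleton (LocCohZ.HZM X F i (offClosed f)) ↔
      Subsingleton (DCoh.inD X F ⟶ (DCoh.dualizingCx f h W)⟦DualRing.deg hω (maximalIdeal R) - (i : ℤ)⟧)) ∧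
    ∀ q : ℤ, q < 0 → Subsingleton (DCoh.inD X F ⟶ (DCoh.dualizingCx f h W)⟦DualRing.deg hω (maximalIdeal R) - q⟧) := by
  haveI : IsLocallyNoetherian X := LocallyOfFiniteType.isLocallyNoetherian f
  haveI : F.IsQuasicoherent := hF.1
  obtain ⟨P, ⟨eP⟩, hP, hneg⟩ := exists_model (R := CommRingCat.of R) f (maximalIdeal R) F
  have hfin := finite_model f hF eP
  let t := DualRing.deg hω (maximalIdeal R)
  have hglob : ∀ m : ℤ, Subsingleton (P ⟶ ωR⟦m⟧) ↔ Subsingleton (DCoh.inD X F ⟶ (DCoh.dualizingCx f h W)⟦m⟧) := fun m => by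
    have hq : DCoh.IsQCohD ((DCoh.inD X F)⟦-m⟧) :=
      OX.isQCohD_shift (DerTrunc.cohIn_single (OX.qcohP X) (show Coh.IsQCoh F from hF.1) 0) (-m)
    obtain ⟨σ⟩ := FMK22.nonempty_rpush_shift f (DCoh.inD X F) (-m)
    obtain ⟨e₁⟩ := shift_back (P := P) (ω := ωR) m
    obtain ⟨e₂⟩ := tilde_equiv (Q := P⟦-m⟧) (ω := ωR)
      (((DCoh.tildeD (CommRingCat.of R)).commShiftIso (-m)).app P ≪≫ (shiftFunctor _ (-m)).mapIso eP ≪≫ σ.symm) hW.some.symm
    obtain ⟨e₃⟩ := adj_equiv f h W _ hq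
    obtain ⟨e₄⟩ := shift_X (DCoh.dualizingCx f h W) (DCoh.inD X F) m
    exact (((e₁.trans e₂).trans e₃).trans e₄).subsingleton_congr
  exact ⟨fun i => ((hP i).trans (subsingleton_HDI_iff hfin hω _)).trans (hglob _),
    fun q hq => (hglob _).1 ((subsingleton_HDI_iff hfin hω q).1 (hneg q hq))⟩

/-- The degree of the dualizing sheaf. -/
theorem deg_eq (hCM : ∀ x : X, LocCoh.IsCohenMacaulayLocalRing (X.presheaf.stalk x))
    (d : ℤ) (hconc : ∀ j : ℤ, j ≠ d → IsZero (DCoh.HD (DCoh.dualizingCx f h W) j))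
    (n : ℕ) (hn : topologicalKrullDim X = (n : WithBot ℕ∞)) :
    DualRing.deg hω (maximalIdeal R) = d + n ∧ Coh.IsCoh (DCoh.HD (DCoh.dualizingCx f h W) d) := by
  haveI : IsLocallyNoetherian X := LocallyOfFiniteType.isLocallyNoetherian f
  haveI : ∀ S : CommRingCat.{u}, PreservesFiniteLimits (tilde.functor S) := fun S => inferInstance
  haveI : ∀ (U : Scheme.{u}) (j : U ⟶ X) [IsOpenImmersion j], PreservesFiniteLimits (Scheme.Modules.restrictFunctor j) :=
    fun U j _ => inferInstance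
  haveI : ∀ (U : Scheme.{u}) (j : U ⟶ Spec (CommRingCat.of R)) [IsOpenImmersion j],
      PreservesFiniteLimits (Scheme.Modules.restrictFunctor j) := fun U j _ => inferInstance
  let K := DCoh.dualizingCx f h W
  have hK : Dual2.IsDualizingSch X K := ShriekBridge22.isDualizingSch_adjoint f h (DCoh.shriekAdj f h) W
    (DualRing.isDualizingSch_of_dualCharts fun y => ⟨R, inferInstance, 𝟙 _, inferInstance,
      ⟨y, rfl⟩, ωR, hω, ⟨(RightAdj22.resDIdIso (Spec (CommRingCat.of R))).app W.obj ≪≫ hW.some⟩⟩)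
  have hKc : Coh.IsCoh (DCoh.HD K d) := by
    refine ShriekBridge22.isCoh_HD_of_finite d fun x => ?_
    obtain ⟨U, hU, hxU, -⟩ := exists_isAffineOpen_mem_and_subset (x := x) (U := ⊤) trivial
    obtain ⟨ω, hωU, e⟩ := hK Γ(X, U) hU.fromSpec
    exact ⟨U, hU, ω, hxU, e, hωU.finite_cohomology d⟩
  refine ⟨?_, hKc⟩
  obtain ⟨x, hx, hxn⟩ := exists_closed_point_dim n hn
  obtain ⟨c, hc, -⟩ := ((DualRing.isCM_stalk_iff_and_isOpen hK).1 x).1 (hCM x)
  obtain rfl : c = d := by
    by_contra hne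
    exact not_subsingleton_iff_nontrivial.2 hc
      (ModuleCat.isZero_iff_subsingleton.1 ((OX.stalk x).map_isZero (hconc c hne)))
  have hne := not_subsingleton_point_hom hx K c hconc hKc hc (hCM x) n hxn
  have hcoh : Coh.IsCoh ((OX.sky x).obj (PointSky29.kap x)) := isCoh_sky_point hx
  obtain ⟨hpos, hneg⟩ := duality_vanish f h hω W hW _ hcoh
  let q := DualRing.deg hω (maximalIdeal R) - (c + n)
  have hq : ¬ Subsingleton (DCoh.inD X ((OX.sky x).obj (PointSky29.kap x)) ⟶
      K⟦DualRing.deg hω (maximalIdeal R) - q⟧) := by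
    rw [show DualRing.deg hω (maximalIdeal R) - q = c + n by omega]
    exact hne
  rcases lt_trichotomy q 0 with hlt | h0 | hgt
  · exact absurd (hneg q hlt) hq
  · omega
  · exfalso
    obtain ⟨p, hp⟩ : ∃ p : ℕ, q = (p : ℤ) := ⟨q.toNat, by omega⟩
    refine hq ?_
    rw [hp]
    refine (hpos p).1 ?_
    haveI : TopCat.Sheaf.IsFlasque (Coh.toAb ((OX.sky x).obj (PointSky29.kap x))) := isFlasque_sky x _
    exact (Groth.Agent.S6023.result (Coh.toAb ((OX.sky x).obj (PointSky29.kap x)))).1 _ _ _ p (by omega)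

end GrothLib.GlobDual22
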