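import Groth.Agent.Lib.GlobDual22.Pairing
import Groth.Agent.Lib.GlobDual22.HZNat
import Groth.Agent.Lib.GlobDual22.DualNat
import Groth.Agent.Lib.GlobDual22.Main
import Groth.Agent.Lib.GlobDual22.Twist

/-! Global duality for a morphism of coherent modules. -/

set_option autoImplicit false
set_option maxHeartbeats 1600000
set_option linter.style.haveILetI false
set_option backward.isDefEq.respectTransparency false

universe u

open CategoryTheory CategoryTheory.Limits AlgebraicGeometry IsLocalRing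

attribute [local instance] HasDerivedCategory.standard

noncomputable section

namespace GrothLib.GlobDual22

theorem injective_iff_of_comm {A B A' B' : Type*} {u : A → B} {v : A' → B'} (e : A → A') (e' : B → B')
    (he : Function.Bijective e) (he' : Function.Bijective e') (h : ∀ x, v (e x) = e' (u x)) :
    Function.Injective u ↔ Function.Injective v := by
  rw [← he'.1.of_comp_iff u, show e' ∘ u = v ∘ e from funext fun x => (h x).symm, Function.Injective.of_comp_iff' _ he]

theorem surjective_iff_of_arrow {A : Type u} [CommRing A] {M N M' N' : ModuleCat.{u} A} (u : M ⟶ N) (v : M' ⟶ N')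
    (i : Arrow.mk u ≅ Arrow.mk v) : Function.Surjective u.hom ↔ Function.Surjective v.hom := by
  show Function.Surjective u ↔ Function.Surjective v
  rw [← ModuleCat.epi_iff_surjective, ← ModuleCat.epi_iff_surjective]
  exact (MorphismProperty.epimorphisms _).arrow_mk_iso_iff i

section Shift

variable {R : Type u} [CommRing R] [IsNoetherianRing R] [IsLocalRing R] [DRing.HasRgammaI (maximalIdeal R)]

theorem surjective_homology_iff_injective {ωR : Dual.D R} (hω : Dual.IsDualizing R ωR)
    {M M' : CochainComplex (ModuleCat.{u} R) ℤ} (β : M ⟶ M') (hs : ∀ n, RGamma.IsSoft (A := R) (M.X n))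
    (hs' : ∀ n, RGamma.IsSoft (A := R) (M'.X n))
    (hM : ∀ n, Module.Finite R (Dual.HD R (DerivedCategory.Q.obj M) n))
    (hM' : ∀ n, Module.Finite R (Dual.HD R (DerivedCategory.Q.obj M') n)) (j : ℤ) :
    Function.Surjective (HomologicalComplex.homologyMap
        (((DRing.gammaI (maximalIdeal R)).mapHomologicalComplex (ComplexShape.up ℤ)).map β) j).hom ↔
      Function.Injective (fun φ : DerivedCategory.Q.obj M' ⟶ ωR⟦DualRing.deg hω (maximalIdeal R) - j⟧ =>
        DerivedCategory.Q.map β ≫ φ) := by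
  let I := maximalIdeal R
  let t := DualRing.deg hω I
  let Γc := (DRing.gammaI I).mapHomologicalComplex (ComplexShape.up ℤ)
  let β' : M⟦j⟧ ⟶ M'⟦j⟧ := β⟦j⟧'
  haveI := RGamma.isIso_comp_of_soft I (M⟦j⟧) (fun n => hs (n + j))
  haveI := RGamma.isIso_comp_of_soft I (M'⟦j⟧) (fun n => hs' (n + j))
  let H0 := HomologicalComplex.homologyFunctor (ModuleCat.{u} R) (ComplexShape.up ℤ) 0
  have i1 : Arrow.mk (HomologicalComplex.homologyMap (Γc.map β') 0) ≅
      Arrow.mk (HomologicalComplex.homologyMap (Γc.map β) j) :=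
    Arrow.isoMk (H0.mapIso ((Γc.commShiftIso j).app M) ≪≫ (H0.shiftIso j 0 j (by omega)).app (Γc.obj M))
      (H0.mapIso ((Γc.commShiftIso j).app M') ≪≫ (H0.shiftIso j 0 j (by omega)).app (Γc.obj M'))
      (by
        have h1 := H0.congr_map ((Γc.commShiftIso j).hom.naturality β)
        have h2 := (H0.shiftIso j 0 j (by omega)).hom.naturality (Γc.map β)
        simp only [Functor.map_comp] at h1
        dsimp
        erw [Category.assoc, ← h2, ← reassoc_of% h1]
        rfl)
  let H := DerivedCategory.homologyFunctor (ModuleCat.{u} R) 0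
  let F0 := DerivedCategory.homologyFunctorFactors (ModuleCat.{u} R) 0
  have i2 : Arrow.mk (HomologicalComplex.homologyMap (Γc.map β') 0) ≅
      Arrow.mk (H.map ((DRing.RgammaI I).map (DerivedCategory.Q.map β'))) :=
    Arrow.isoMk ((F0.app _).symm ≪≫ H.mapIso (asIso (RGamma.comp I (M⟦j⟧))))
      ((F0.app _).symm ≪≫ H.mapIso (asIso (RGamma.comp I (M'⟦j⟧))))
      (by
        have h1 := F0.inv.naturality (Γc.map β')
        have h2 := H.congr_map (RGamma.comp_naturality I β')
        simp only [Functor.map_comp] at h2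
        dsimp
        erw [Category.assoc, ← h2, ← reassoc_of% h1]
        rfl)
  rw [← surjective_iff_of_arrow _ _ i1, surjective_iff_of_arrow _ _ i2]
  have hfin : ∀ (N : CochainComplex (ModuleCat.{u} R) ℤ), (∀ n, Module.Finite R (Dual.HD R (DerivedCategory.Q.obj N) n)) →
      ∀ n, Module.Finite R (Dual.HD R (DerivedCategory.Q.obj (N⟦j⟧)) n) := fun N hN n => by
    haveI := hN (j + n)
    exact Module.Finite.equiv ((DualRing.nonempty_HD_shift (DerivedCategory.Q.obj N) j n (j + n) rfl).some.symm.trans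
      (RGamma.hdIso (((DerivedCategory.Q (C := ModuleCat.{u} R)).commShiftIso j).app N).symm n))
  obtain ⟨E, _, _, ι, hE⟩ := InjMod.exists_injective_hull (R := R) (ResidueField R)
  refine (surjective_h0_iff (DualRing.isDualizing_shift hω t) (DualRing.isNormalized_shift hω) hE (hfin M hM) (hfin M' hM')
    (DerivedCategory.Q.map β')).trans ?_
  let A₁ := (shiftEquiv' (Dual.D R) j (-j) (by omega)).toAdjunction
  let c := ((DerivedCategory.Q (C := ModuleCat.{u} R)).commShiftIso j)
  let s := ((shiftFunctorAdd' (Dual.D R) t (-j) (t - j) (by omega)).app ωR).symm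
  let e : ∀ N : CochainComplex (ModuleCat.{u} R) ℤ, (DerivedCategory.Q.obj (N⟦j⟧) ⟶ ωR⟦t⟧) ≃
      (DerivedCategory.Q.obj N ⟶ ωR⟦t - j⟧) := fun N =>
    ((Iso.homCongr (c.app N) (Iso.refl _)).trans (A₁.homEquiv _ _)).trans (Iso.homCongr (Iso.refl _) s)
  refine injective_iff_of_comm (e M') (e M) (e M').bijective (e M).bijective fun φ => ?_
  have h1 : c.inv.app M ≫ DerivedCategory.Q.map β' = (DerivedCategory.Q.map β)⟦j⟧' ≫ c.inv.app M' :=
    (c.inv.naturality β).symm
  show DerivedCategory.Q.map β ≫ 𝟙 _ ≫ A₁.homEquiv _ _ (c.inv.app M' ≫ φ ≫ 𝟙 _) ≫ s.hom =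
    𝟙 _ ≫ A₁.homEquiv _ _ (c.inv.app M ≫ (DerivedCategory.Q.map β' ≫ φ) ≫ 𝟙 _) ≫ s.hom
  simp only [Category.id_comp, Category.comp_id]
  rw [reassoc_of% h1]
  exact ((Category.assoc _ _ _).symm.trans (congrArg (· ≫ s.hom) (A₁.homEquiv_naturality_left _ _).symm))

end Shift

variable {R : Type u} [CommRing R] [IsNoetherianRing R] [IsLocalRing R] {X : Scheme.{u}}
  (f : X ⟶ Spec (CommRingCat.of R)) [IsProper f] [PreservesFiniteLimits (tilde.functor (CommRingCat.of R))]
  [DCoh.HasRpush f] (h : DCoh.RpushPreservesQCoh f) [DCoh.HasShriek f h]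
  {ωR : Dual.D R} (hω : Dual.IsDualizing R ωR)
  (W : DCoh.DQCoh (Spec (CommRingCat.of R))) (hW : Nonempty (W.obj ≅ (DCoh.tildeD (CommRingCat.of R)).obj ωR))

include hω hW

theorem surjective_HZM_map_iff {F F' : X.Modules} (hF : Coh.IsCoh F) (hF' : Coh.IsCoh F') (a : F ⟶ F') (i : ℕ) :
    Function.Surjective (LocCohZ.map (X := X.carrier) ((QCoh.toAbFun X).map a) i (le_top : offClosed f ≤ ⊤)) ↔
      Function.Injective (fun φ : DCoh.inD X F' ⟶ (DCoh.dualizingCx f h W)⟦DualRing.deg hω (maximalIdeal R) - (i : ℤ)⟧ =>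
        (DerivedCategory.singleFunctor X.Modules 0).map a ≫ φ) := by
  haveI : IsLocallyNoetherian X := LocallyOfFiniteType.isLocallyNoetherian f
  haveI : F.IsQuasicoherent := hF.1
  haveI : F'.IsQuasicoherent := hF'.1
  haveI : EnoughInjectives X.Modules := SheafCoh.enoughInjectives_sheafOfModules X.ringCatSheaf
  haveI := DualCx22.hasRgammaI (A := R) (maximalIdeal R)
  let R₁ := CohExtend20.resolution F
  let R₂ := CohExtend20.resolution F'
  let φ : InjectiveResolution.Hom R₁ R₂ a :=
    ⟨InjectiveResolution.desc a R₂ R₁, (InjectiveResolution.desc_commutes_zero a R₂ R₁).trans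
      (congrArg (· ≫ R₂.ι.f 0) (CochainComplex.single₀_map_f_zero a).symm)⟩
  haveI : R₁.cochainComplex.IsKInjective := CochainComplex.isKInjective_of_injective _ 0
  haveI : R₂.cochainComplex.IsKInjective := CochainComplex.isKInjective_of_injective _ 0
  obtain ⟨e₁, e₂, hee⟩ := exists_model_hom (R := CommRingCat.of R) f R₁.cochainComplex R₂.cochainComplex
    (qcoh_resolution F) (qcoh_resolution F') φ.hom'
  haveI : IsIso (DerivedCategory.Q.map R₁.ι') := Localization.inverts _ (HomologicalComplex.quasiIso _ (ComplexShape.up ℤ)) _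
    ((HomologicalComplex.mem_quasiIso_iff _).2 inferInstance)
  haveI : IsIso (DerivedCategory.Q.map R₂.ι') := Localization.inverts _ (HomologicalComplex.quasiIso _ (ComplexShape.up ℤ)) _
    ((HomologicalComplex.mem_quasiIso_iff _).2 inferInstance)
  let k₁ : DCoh.inD X F ≅ DerivedCategory.Q.obj R₁.cochainComplex :=
    (DerivedCategory.singleFunctorIsoCompQ X.Modules 0).app F ≪≫ asIso (DerivedCategory.Q.map R₁.ι')
  let k₂ : DCoh.inD X F' ≅ DerivedCategory.Q.obj R₂.cochainComplex :=
    (DerivedCategory.singleFunctorIsoCompQ X.Modules 0).app F' ≪≫ asIso (DerivedCategory.Q.map R₂.ι')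
  let eP₁ := e₁ ≪≫ (DCoh.Rpush f).mapIso k₁.symm
  let eP₂ := e₂ ≪≫ (DCoh.Rpush f).mapIso k₂.symm
  have hk : (DerivedCategory.singleFunctor X.Modules 0).map a ≫ k₂.hom = k₁.hom ≫ DerivedCategory.Q.map φ.hom' := by
    have h1 := (DerivedCategory.singleFunctorIsoCompQ X.Modules 0).hom.naturality a
    have h2 := DerivedCategory.Q.congr_map φ.ι'_comp_hom'
    simp only [Functor.map_comp] at h2
    show _ ≫ _ ≫ DerivedCategory.Q.map R₂.ι' = (_ ≫ DerivedCategory.Q.map R₁.ι') ≫ _
    erw [reassoc_of% h1, Category.assoc, h2]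
    rfl
  have hk' : DerivedCategory.Q.map φ.hom' ≫ k₂.inv = k₁.inv ≫ (DerivedCategory.singleFunctor X.Modules 0).map a := by
    rw [Iso.comp_inv_eq, Category.assoc, hk, Iso.inv_hom_id_assoc]
  have hgk : (DCoh.tildeD (CommRingCat.of R)).map (DerivedCategory.Q.map ((secCx (R := CommRingCat.of R) f).map φ.hom')) ≫ eP₂.hom =
      eP₁.hom ≫ (DCoh.Rpush f).map ((DerivedCategory.singleFunctor X.Modules 0).map a) := by
    show _ ≫ e₂.hom ≫ (DCoh.Rpush f).map k₂.inv = (e₁.hom ≫ (DCoh.Rpush f).map k₁.inv) ≫ _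
    erw [reassoc_of% hee, ← Functor.map_comp, hk', Functor.map_comp, Category.assoc]
  rw [← injective_dual_iff f h W hW.some (DCoh.inD X F') (DCoh.inD X F)
    (DerTrunc.cohIn_single (OX.qcohP X) (show Coh.IsQCoh F' from hF'.1) 0)
    (DerTrunc.cohIn_single (OX.qcohP X) (show Coh.IsQCoh F from hF.1) 0) _ eP₂ eP₁ _ _ hgk]
  refine (surjective_HZM_map_iff_homology (R := CommRingCat.of R) f (maximalIdeal R) a φ i).trans ?_
  exact surjective_homology_iff_injective hω ((secCx (R := CommRingCat.of R) f).map φ.hom')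
    (fun n => haveI := qcoh_resolution F n; isSoft_secR (R := CommRingCat.of R) f _)
    (fun n => haveI := qcoh_resolution F' n; isSoft_secR (R := CommRingCat.of R) f _)
    (finite_model f hF eP₁) (finite_model f hF' eP₂) (i : ℤ)

omit hω hW in
theorem injective_precomp_iff_ext [HasExt.{u} X.Modules] {M M' : X.Modules} (a : M ⟶ M') (K : DCoh.D X) (d : ℤ)
    (hK : ∀ j, j ≠ d → IsZero (DCoh.HD K j)) (q : ℕ) :
    Function.Injective (fun φ : DCoh.inD X M' ⟶ K⟦d + (q : ℤ)⟧ => (DerivedCategory.singleFunctor X.Modules 0).map a ≫ φ) ↔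
      Function.Injective (fun x : Abelian.Ext M' (DCoh.HD K d) q => (Abelian.Ext.mk₀ a).comp x (zero_add q)) := by
  haveI : K.IsGE d := (DerivedCategory.isGE_iff _ _).2 fun i hi => hK i (by omega)
  haveI : K.IsLE d := (DerivedCategory.isLE_iff _ _).2 fun i hi => hK i (by omega)
  obtain ⟨eK⟩ := DerTrunc.nonempty_iso_single K d
  let F := DerivedCategory.singleFunctors X.Modules
  let e₁ : K⟦d + (q : ℤ)⟧ ≅ (DCoh.inD X (DCoh.HD K d))⟦(q : ℤ)⟧ :=
    (shiftFunctorAdd' _ d (q : ℤ) _ rfl).app _ ≪≫ (shiftFunctor _ (q : ℤ)).mapIso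
      ((shiftFunctor _ d).mapIso eK ≪≫ (F.shiftIso d 0 d (by omega)).app _)
  let e : ∀ N : X.Modules, Abelian.Ext N (DCoh.HD K d) q ≃ (DCoh.inD X N ⟶ K⟦d + (q : ℤ)⟧) := fun N =>
    Abelian.Ext.homEquiv.trans (Iso.homCongr (Iso.refl _) e₁.symm)
  refine (injective_iff_of_comm (e M') (e M) (e M').bijective (e M).bijective fun x => ?_).symm
  show (DerivedCategory.singleFunctor X.Modules 0).map a ≫ 𝟙 _ ≫ x.hom ≫ e₁.inv =
    𝟙 _ ≫ ((Abelian.Ext.mk₀ a).comp x (zero_add q)).hom ≫ e₁.inv
  rw [Category.id_comp, Category.id_comp, Abelian.Ext.comp_hom, Abelian.Ext.mk₀_hom, ShiftedHom.mk₀_comp,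
    Category.assoc]

end GrothLib.GlobDual22
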