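import Groth.Agent.Lib.GlobDual22.Res

/-! The model of `Rf_*` of a K-injective complex, with naturality in endomorphisms. -/

set_option autoImplicit false
set_option maxHeartbeats 1600000
set_option linter.style.haveILetI false
set_option backward.isDefEq.respectTransparency false

universe u

open CategoryTheory CategoryTheory.Limits AlgebraicGeometry

attribute [local instance] HasDerivedCategory.standard

noncomputable section

namespace GrothLib.GlobDual22

variable {R : CommRingCat.{u}} {X : Scheme.{u}} (f : X ⟶ Spec R)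

instance secR_additive : (secR f).Additive := by
  haveI := tilde.adjunction (R := R).right_adjoint_additive
  infer_instance

/-- The complex of global sections. -/
abbrev secCx : CochainComplex X.Modules ℤ ⥤ CochainComplex (ModuleCat.{u} R) ℤ :=
  (secR f).mapHomologicalComplex (ComplexShape.up ℤ)

variable [PreservesFiniteLimits (tilde.functor R)] [DCoh.HasRpush f]

theorem exists_model_natural [QuasiCompact f] [QuasiSeparated f] (K : CochainComplex X.Modules ℤ) [K.IsKInjective]
    (hKq : ∀ n, (K.X n).IsQuasicoherent) :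
    ∃ e : (DCoh.tildeD R).obj (DerivedCategory.Q.obj ((secCx f).obj K)) ≅ (DCoh.Rpush f).obj (DerivedCategory.Q.obj K),
      ∀ g : K ⟶ K, (DCoh.tildeD R).map (DerivedCategory.Q.map ((secCx f).map g)) ≫ e.hom =
        e.hom ≫ (DCoh.Rpush f).map (DerivedCategory.Q.map g) := by
  let q' := HomotopyCategory.quotient X.Modules (ComplexShape.up ℤ)
  haveI : IsIso ((KInj.resAdj X.Modules).unit.app (q'.obj K)) :=
    KInj.isIso_unit_of_rightOrthogonal (CochainComplex.IsKInjective.rightOrthogonal K)
  let P := (Scheme.Modules.pushforward f).mapHomologicalComplex (ComplexShape.up ℤ)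
  let PK := (Scheme.Modules.pushforward f).mapHomotopyCategory (ComplexShape.up ℤ)
  let a := (OX.rpushIsoRres f).app (DerivedCategory.Q.obj K)
  let b : (KInj.res X.Modules).obj (DerivedCategory.Q.obj K) ≅ q'.obj K :=
    (KInj.res _).mapIso ((DerivedCategory.quotientCompQhIso _).app K).symm ≪≫
      (asIso ((KInj.resAdj X.Modules).unit.app (q'.obj K))).symm
  have hb : ∀ g : K ⟶ K, (KInj.res X.Modules).map (DerivedCategory.Q.map g) ≫ b.hom = b.hom ≫ q'.map g := fun g => by
    have h1 := (DerivedCategory.quotientCompQhIso X.Modules).inv.naturality g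
    have h2 := (KInj.resAdj X.Modules).unit.naturality (q'.map g)
    dsimp [b] at *
    rw [← Functor.map_comp_assoc, h1, Functor.map_comp_assoc, Category.assoc]
    congr 1
    rw [IsIso.eq_inv_comp, ← Category.assoc, IsIso.comp_inv_eq]
    exact h2.symm
  let T := P.obj K
  haveI hT : ∀ n, (T.X n).IsQuasicoherent := fun n => haveI := hKq n; QCoh.isQuasicoherent_pushforward f _
  haveI := tilde.adjunction (R := R).right_adjoint_additive
  let eT : ((tilde.functor R).mapHomologicalComplex (ComplexShape.up ℤ)).obj ((secCx f).obj K) ≅ T :=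
    HomologicalComplex.Hom.isoOfComponents
      (fun n => haveI : IsIso (T.X n).fromTildeΓ := Scheme.Modules.isIso_fromTildeΓ_of_isQuasicoherent _
        asIso (T.X n).fromTildeΓ)
      (fun n m _ => ((Scheme.Modules.fromTildeΓNatTrans (R := R)).naturality (T.d n m)).symm)
  have hTn : ∀ g : K ⟶ K, ((tilde.functor R).mapHomologicalComplex (ComplexShape.up ℤ)).map ((secCx f).map g) ≫ eT.hom =
      eT.hom ≫ P.map g := fun g => by
    ext n : 1
    exact (Scheme.Modules.fromTildeΓNatTrans (R := R)).naturality ((Scheme.Modules.pushforward f).map (g.f n))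
  let c : (DCoh.Rpush f).obj (DerivedCategory.Q.obj K) ≅ DerivedCategory.Q.obj T :=
    a ≪≫ DerivedCategory.Qh.mapIso (PK.mapIso b ≪≫
        ((Scheme.Modules.pushforward f).mapHomotopyCategoryFactors (ComplexShape.up ℤ)).app K) ≪≫
      (DerivedCategory.quotientCompQhIso _).app T
  have hc : ∀ g : K ⟶ K, (DCoh.Rpush f).map (DerivedCategory.Q.map g) ≫ c.hom =
      c.hom ≫ DerivedCategory.Q.map (P.map g) := fun g => by
    have h1 := (OX.rpushIsoRres f).hom.naturality (DerivedCategory.Q.map g)
    have h2 := DerivedCategory.Qh.congr_map (congrArg PK.map (hb g))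
    have h3 := DerivedCategory.Qh.congr_map
      (((Scheme.Modules.pushforward f).mapHomotopyCategoryFactors (ComplexShape.up ℤ)).hom.naturality g)
    have h4 := (DerivedCategory.quotientCompQhIso (Spec R).Modules).hom.naturality (P.map g)
    simp only [Functor.map_comp] at h2 h3
    show _ ≫ (a.hom ≫ (DerivedCategory.Qh.map (PK.map b.hom ≫ _)) ≫ _) = (a.hom ≫ (DerivedCategory.Qh.map (PK.map b.hom ≫ _)) ≫ _) ≫ _
    simp only [Functor.map_comp, Category.assoc]
    erw [reassoc_of% h1, reassoc_of% h2, reassoc_of% h3, h4]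
    rfl
  let m := (tilde.functor R).mapDerivedCategoryFactors.app ((secCx f).obj K)
  refine ⟨m ≪≫ DerivedCategory.Q.mapIso eT ≪≫ c.symm, fun g => ?_⟩
  have h5 := (tilde.functor R).mapDerivedCategoryFactors.hom.naturality ((secCx f).map g)
  have h6 := DerivedCategory.Q.congr_map (hTn g)
  have h7 : DerivedCategory.Q.map (P.map g) ≫ c.inv = c.inv ≫ (DCoh.Rpush f).map (DerivedCategory.Q.map g) := by
    rw [Iso.comp_inv_eq, Category.assoc, hc g, Iso.inv_hom_id_assoc]
  simp only [Functor.map_comp] at h6
  show _ ≫ (m.hom ≫ DerivedCategory.Q.map eT.hom ≫ c.inv) = (m.hom ≫ DerivedCategory.Q.map eT.hom ≫ c.inv) ≫ _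
  simp only [Category.assoc]
  erw [reassoc_of% h5, reassoc_of% h6, h7]
  rfl

end GrothLib.GlobDual22
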