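import Groth.Agent.Lib.DualCx22.LocalDual
import Groth.Agent.Lib.DualCx22.LocalCohD
import Groth.Agent.Lib.DualCx22.HomDerived
import Groth.Agent.Lib.RGamma.Classes
import Groth.Agent.Lib.DCxRHom.HomAssoc
import Groth.Agent.Lib.DCxRing.KoszulCone
import Groth.Agent.Lib.InjMod.Matlis

/-! Local duality as a perfect pairing. -/

set_option autoImplicit false
set_option maxHeartbeats 1600000
set_option linter.style.haveILetI false
set_option backward.isDefEq.respectTransparency false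

universe u

open CategoryTheory CategoryTheory.Limits CochainComplex CochainComplex.HomComplex IsLocalRing

attribute [local instance] HasDerivedCategory.standard

noncomputable section

namespace GrothLib.GlobDual22

variable {A : Type u} [CommRing A]

/-- Evaluation at a cocycle of degree zero. -/
def evCx (L J : DRing.Cx A) (l : L.X 0) (hl : L.d 0 1 l = 0) : DRing.homCx L J ⟶ J where
  f n := ModuleCat.ofHom
    { toFun := fun z : Cochain L J n => z.v 0 n (zero_add n) l
      map_add' := fun z w => by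
        show (z + w).v 0 n (zero_add n) l = _
        rw [Cochain.add_v]; rfl
      map_smul' := fun a z => by
        show (a • z).v 0 n (zero_add n) l = a • z.v 0 n (zero_add n) l
        rw [Cochain.smul_v]; rfl }
  comm' n m hnm := by
    obtain rfl : n + 1 = m := hnm
    refine ModuleCat.hom_ext (LinearMap.ext fun (z : Cochain L J n) => ?_)
    change J.d n (n + 1) (z.v 0 n (zero_add n) l) = (δ n (n + 1) z).v 0 (n + 1) (zero_add _) l
    rw [RH.δ_app z 0 (n + 1) n 1 (zero_add _) (by omega) rfl l, hl, map_zero, smul_zero, add_zero]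

theorem evCx_natural (L : DRing.Cx A) {J J' : DRing.Cx A} (g : J ⟶ J') (l : L.X 0) (hl : L.d 0 1 l = 0) :
    DRing.homCxMap L g ≫ evCx L J' l hl = evCx L J l hl ≫ g := by
  refine HomologicalComplex.hom_ext _ _ fun n => ModuleCat.hom_ext (LinearMap.ext fun (z : Cochain L J n) => ?_)
  change (z.comp (Cochain.ofHom g) (add_zero n)).v 0 n (zero_add n) l = g.f n (z.v 0 n (zero_add n) l)
  rw [Cochain.comp_zero_cochain_v, Cochain.ofHom_v]
  rfl

/-- Evaluations at cocycles detect classes of maps into an injective module. -/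
theorem exists_evCx_ne_zero (L : DRing.Cx A) (E : ModuleCat.{u} A) (hE : Module.Injective A E)
    (y : (DRing.homCx L ((CochainComplex.singleFunctor (ModuleCat.{u} A) 0).obj E)).homology 0) (hy : y ≠ 0) :
    ∃ (l : L.X 0) (hl : L.d 0 1 l = 0),
      HomologicalComplex.homologyMap (evCx L ((CochainComplex.singleFunctor (ModuleCat.{u} A) 0).obj E) l hl) 0 y ≠ 0 := by
  let J : DRing.Cx A := (CochainComplex.singleFunctor (ModuleCat.{u} A) 0).obj E
  obtain ⟨z, hz, rfl⟩ := RGamma.cls_surjective (K := DRing.homCx L J) 0 y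
  let e : J.X 0 ≅ E := HomologicalComplex.singleObjXSelf (ComplexShape.up ℤ) 0 E
  by_contra h
  push_neg at h
  refine hy ((RGamma.cls_eq_zero_iff (show (-1 : ℤ) + 1 = 0 by norm_num) _ hz).2 ?_)
  let f : L.X 0 ⟶ E := Cochain.toSingleEquiv (zero_add 0) (show Cochain L J 0 from z)
  have hf : LinearMap.ker (L.d 0 1).hom ≤ LinearMap.ker f.hom := fun l hl => by
    have h0 := h l hl
    rw [RGamma.cls_map (evCx L J l hl) _ hz] at h0
    obtain ⟨w, hw⟩ := (RGamma.cls_eq_zero_iff (show (-1 : ℤ) + 1 = 0 by norm_num) _ _).1 h0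
    have hw0 : w = 0 := @Subsingleton.elim _
      (ModuleCat.subsingleton_of_isZero (HomologicalComplex.isZero_single_obj_X _ _ _ _ (by norm_num))) w 0
    rw [hw0, map_zero] at hw
    show e.hom ((show Cochain L J 0 from z).v 0 0 (zero_add 0) l) = 0
    exact (congrArg e.hom hw.symm).trans (map_zero _)
  let j : (L.X 0 ⧸ LinearMap.ker (L.d 0 1).hom) →ₗ[A] L.X 1 := Submodule.liftQ _ (L.d 0 1).hom le_rfl
  obtain ⟨g, hg⟩ := hE.out j (LinearMap.ker_eq_bot.1 (Submodule.ker_liftQ_eq_bot _ _ _ le_rfl))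
    (Submodule.liftQ _ f.hom hf)
  refine ⟨(show (DRing.homCx L J).X (-1) from Cochain.toSingleMk (ModuleCat.ofHom g) (by norm_num : (1 : ℤ) + -1 = 0)), ?_⟩
  show δ (-1) 0 (Cochain.toSingleMk (ModuleCat.ofHom g) (by norm_num : (1 : ℤ) + -1 = 0)) = (show Cochain L J 0 from z)
  apply (Cochain.toSingleEquiv (zero_add 0)).injective
  rw [Cochain.δ_toSingleMk (ModuleCat.ofHom g) (by norm_num : (1 : ℤ) + -1 = 0) 0 0 (zero_add 0)]
  simp only [Int.negOnePow_zero, one_smul]
  rw [Cochain.toSingleEquiv_toSingleMk]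
  exact ModuleCat.hom_ext (LinearMap.ext fun x => hg (Submodule.Quotient.mk x))

variable [IsNoetherianRing A]

theorem isIso_gamma_incl (J : Ideal A) (C : DRing.Cx A) :
    IsIso (((DRing.gammaI J).mapHomologicalComplex (ComplexShape.up ℤ)).map (RGamma.incl J C)) := by
  haveI : ∀ n, IsIso ((((DRing.gammaI J).mapHomologicalComplex (ComplexShape.up ℤ)).map (RGamma.incl J C)).f n) :=
    fun n => by
    rw [ConcreteCategory.isIso_iff_bijective]
    refine ⟨fun x y h => Subtype.ext (Subtype.ext (congrArg Subtype.val h)), ?_⟩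
    rintro ⟨x, k, hk⟩
    exact ⟨⟨⟨x, k, hk⟩, k, fun a ha => Subtype.ext (hk a ha)⟩, rfl⟩
  exact HomologicalComplex.Hom.isIso_of_components _

theorem isIso_rgamma_Q (J : Ideal A) [DRing.HasRgammaI J] {C D : DRing.Cx A} [C.IsKInjective] [D.IsKInjective]
    (m : C ⟶ D) [IsIso (((DRing.gammaI J).mapHomologicalComplex (ComplexShape.up ℤ)).map m)] :
    IsIso ((DRing.RgammaI J).map (DerivedCategory.Q.map m)) := by
  haveI := RGamma.isIso_comp_of_isKInjective J C
  haveI := RGamma.isIso_comp_of_isKInjective J D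
  haveI : IsIso (RGamma.comp J C ≫ (DRing.RgammaI J).map (DerivedCategory.Q.map m)) := by
    rw [← RGamma.comp_naturality]; infer_instance
  exact IsIso.of_isIso_comp_left (RGamma.comp J C) _

theorem rgamma_map_add (J : Ideal A) [DRing.HasRgammaI J] {P Q : Dual.D A} (φ ψ : P ⟶ Q) :
    (DRing.RgammaI J).map (φ + ψ) = (DRing.RgammaI J).map φ + (DRing.RgammaI J).map ψ := by
  refine (RGamma.hom_bijective J _ Q (RGamma.isPowerTorsion_HD J P)).1 ?_
  show _ ≫ _ = (_ + _) ≫ _
  rw [Preadditive.add_comp, (DRing.RgammaIε J).naturality, (DRing.RgammaIε J).naturality,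
    (DRing.RgammaIε J).naturality]
  exact Preadditive.comp_add _ _ _ _ φ ψ

theorem rgamma_map_smul (J : Ideal A) [DRing.HasRgammaI J] {P Q : Dual.D A} (a : A) (φ : P ⟶ Q) :
    (DRing.RgammaI J).map (a • φ) = a • (DRing.RgammaI J).map φ := by
  refine (RGamma.hom_bijective J _ Q (RGamma.isPowerTorsion_HD J P)).1 ?_
  show _ ≫ _ = (_ • _) ≫ _
  rw [Linear.smul_comp, (DRing.RgammaIε J).naturality, (DRing.RgammaIε J).naturality]
  exact Linear.comp_smul _ _ _ _ a φ

variable [IsLocalRing A]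

local notation "𝔪" => IsLocalRing.maximalIdeal A

/-- `H⁰` of `RΓ_m`. -/
abbrev h0 [DRing.HasRgammaI 𝔪] {P Q : Dual.D A} (φ : P ⟶ Q) :
    Dual.HD A ((DRing.RgammaI 𝔪).obj P) 0 →ₗ[A] Dual.HD A ((DRing.RgammaI 𝔪).obj Q) 0 :=
  ((DerivedCategory.homologyFunctor (ModuleCat.{u} A) 0).map ((DRing.RgammaI 𝔪).map φ)).hom

omit [IsNoetherianRing A] in
theorem h0_comp [DRing.HasRgammaI 𝔪] {P Q S : Dual.D A} (φ : P ⟶ Q) (ψ : Q ⟶ S) (x) :
    h0 (φ ≫ ψ) x = h0 ψ (h0 φ x) := by
  show ((DerivedCategory.homologyFunctor (ModuleCat.{u} A) 0).map ((DRing.RgammaI 𝔪).map (φ ≫ ψ))).hom x = _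
  rw [Functor.map_comp, Functor.map_comp]
  rfl

omit [IsNoetherianRing A] in
theorem injective_hd_map {P Q : Dual.D A} (φ : P ⟶ Q) [IsIso φ] (n : ℤ) :
    Function.Injective ((DerivedCategory.homologyFunctor (ModuleCat.{u} A) n).map φ).hom :=
  (ConcreteCategory.bijective_of_isIso ((DerivedCategory.homologyFunctor (ModuleCat.{u} A) n).map φ)).1

omit [IsNoetherianRing A] [IsLocalRing A] in
theorem hd_map_smul {P Q : Dual.D A} (a : A) (φ : P ⟶ Q) :
    (DerivedCategory.homologyFunctor (ModuleCat.{u} A) 0).map (a • φ) =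
      a • (DerivedCategory.homologyFunctor (ModuleCat.{u} A) 0).map φ := by
  rw [show a • φ = (a • 𝟙 P) ≫ φ by rw [Linear.smul_comp, Category.id_comp], Functor.map_comp,
    DR.homologyFunctor_map_smul_id, Linear.smul_comp, Category.id_comp]

theorem exists_hom_ne_zero [DRing.HasRgammaI 𝔪] {ω : Dual.D A} (hω : Dual.IsDualizing A ω) (hn : Dual.IsNormalized A ω) {E : Type u}
    [AddCommGroup E] [Module A E] {f : ResidueField A →ₗ[A] E} (hf : InjHull.IsInjectiveHull f)
    (P : Dual.D A) (hP : ∀ i, Module.Finite A (Dual.HD A P i)) (x : Dual.HD A ((DRing.RgammaI 𝔪).obj P) 0)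
    (hx : x ≠ 0) : ∃ φ : P ⟶ ω, h0 φ x ≠ 0 := by
  obtain ⟨r⟩ := DualCx22.nonempty_injRep hω
  haveI := r.kInj
  haveI := r.gammaI_kInj
  obtain ⟨K, -, ⟨eC⟩⟩ := RH.exists_kInjective_rep P
  have hK : ∀ i, Module.Finite A (Dual.HD A (DRing.toD K) i) := fun i =>
    haveI := hP i; Module.Finite.equiv (RGamma.hdIso eC i)
  obtain ⟨L, q, hL, -, hq, -⟩ := KF.exists_kflat_resolution (r.dual K)
  haveI := hq
  haveI := RH.quasiIso_homCxPre q r.I
  haveI := RH.quasiIso_Q (RH.homCxPre q r.I)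
  obtain ⟨eK⟩ := r.nonempty_bidual K hK
  let D := DRing.homCx L r.I
  let T := DRing.homCx L r.gammaI
  let eK' : P ≅ DRing.toD D := eC ≪≫ eK ≪≫ asIso (DerivedCategory.Q.map (RH.homCxPre q r.I))
  haveI : D.IsKInjective := RH.isKInjective_homCx L r.I hL
  haveI : T.IsKInjective := RH.isKInjective_homCx L r.gammaI hL
  let m : T ⟶ D := DRing.homCxMap L (RGamma.incl 𝔪 r.I)
  haveI : IsIso (((DRing.gammaI 𝔪).mapHomologicalComplex (ComplexShape.up ℤ)).map m) :=
    DualCx22.isIso_gamma_homCxMap_incl 𝔪 L r.I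
  haveI := isIso_rgamma_Q 𝔪 m
  haveI := isIso_gamma_incl 𝔪 r.I
  haveI := isIso_rgamma_Q 𝔪 (RGamma.incl 𝔪 r.I)
  obtain ⟨g⟩ := r.nonempty_gammaI_iso hω hn hf
  let J : DRing.Cx A := (CochainComplex.singleFunctor (ModuleCat.{u} A) 0).obj (ModuleCat.of A E)
  haveI hinj : ∀ k, Injective (J.X k) := fun k => by
    by_cases hk : k = 0
    · subst hk
      exact Injective.of_iso (HomologicalComplex.singleObjXSelf (ComplexShape.up ℤ) 0 (ModuleCat.of A E)).symm
        ((Module.injective_iff_injective_object A E).1 hf.isInjective)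
    · exact (HomologicalComplex.isZero_single_obj_X _ _ _ _ hk).injective
  haveI : J.IsKInjective := CochainComplex.isKInjective_of_injective J 0
  obtain ⟨w, hw⟩ := (CochainComplex.IsKInjective.Qh_map_bijective ((HomotopyCategory.quotient _ _).obj r.gammaI) J).2
    ((DerivedCategory.quotientCompQhIso _).hom.app r.gammaI ≫ (g ≪≫ DCpl.eSingle (ModuleCat.of A E)).hom ≫
      (DerivedCategory.quotientCompQhIso _).inv.app J :
      DerivedCategory.Qh.obj ((HomotopyCategory.quotient _ _).obj r.gammaI) ⟶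
        DerivedCategory.Qh.obj ((HomotopyCategory.quotient _ _).obj J))
  obtain ⟨w, rfl⟩ := (HomotopyCategory.quotient _ _).map_surjective w
  haveI hwi : IsIso (DerivedCategory.Q.map w) := by
    have h1 := (DerivedCategory.quotientCompQhIso (ModuleCat.{u} A)).hom.naturality w
    rw [Functor.comp_map, hw, Category.assoc, Category.assoc, Iso.inv_hom_id_app] at h1
    have h2 : DerivedCategory.Q.map w = (g ≪≫ DCpl.eSingle (ModuleCat.of A E)).hom := by
      refine (cancel_epi ((DerivedCategory.quotientCompQhIso _).hom.app r.gammaI)).1 (h1.symm.trans ?_)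
      exact congrArg (_ ≫ ·) (Category.comp_id _)
    rw [h2]; infer_instance
  haveI : QuasiIso (DRing.homCxMap L w) := DualCx22.quasiIso_homCxMap_of_D L w fun n =>
    ((CategoryTheory.shiftFunctor (Dual.D A) n).mapIso (asIso (DerivedCategory.Q.map w))).homToEquiv (X := _) |>.bijective
  have hΓ : ∀ n, LocCoh.IsPowerTorsion 𝔪 (Dual.HD A (DRing.toD r.gammaI) n) := fun n =>
    RGamma.isPowerTorsion_of_linearEquiv 𝔪 (RGamma.hdEquiv r.gammaI n).symm
      (RGamma.isPowerTorsion_homology_gamma 𝔪 r.I n)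
  haveI := RGamma.isIso_ε 𝔪 (DRing.toD r.gammaI) hΓ
  have hdual : ∀ p : ℤ, Module.Finite A (Dual.HD A (DRing.toD (r.dual K)) p) := fun p => by
    obtain ⟨e⟩ := r.nonempty_HD_dual K p
    haveI := DualCx22.finite_hom (DRing.toD K) ω hK hω.finite_cohomology
      (show DRing.HasFiniteInjDim A ω from ⟨r.a, r.b, r.I, r.vanish, fun t =>
        (Module.injective_iff_injective_object A (r.I.X t)).2 (r.inj t), ⟨r.iso⟩⟩) p
    exact Module.Finite.equiv e.symm
  haveI := RH.quasiIso_Q q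
  have htor : ∀ n : ℤ, LocCoh.IsPowerTorsion 𝔪 (Dual.HD A (DRing.toD T) n) := fun n => by
    obtain ⟨e₁⟩ := DualRing.exists_HD_homCx_equiv L r.gammaI n
    obtain ⟨e₂⟩ := DualCx22.nonempty_hom_inD_injective L E hf.isInjective n (-n) (neg_add_cancel n)
    haveI : Module.Finite A (Dual.HD A (DRing.toD L) (-n)) :=
      haveI := hdual (-n)
      Module.Finite.equiv (RGamma.hdIso (asIso (DerivedCategory.Q.map q)) (-n)).symm
    exact RGamma.isPowerTorsion_of_linearEquiv 𝔪
      ((e₁.trans (Linear.homCongr A (Iso.refl _) ((CategoryTheory.shiftFunctor (Dual.D A) n).mapIso g))).trans e₂).symm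
      (DualCx22.isPowerTorsion_hom_finite (Matlis.isPowerTorsion_of_hull hf) _)
  haveI := RGamma.isIso_ε 𝔪 (DRing.toD T) htor
  let H := DerivedCategory.homologyFunctor (ModuleCat.{u} A) 0
  let b : DRing.toD T ⟶ (DRing.RgammaI 𝔪).obj (DRing.toD D) :=
    inv ((DRing.RgammaIε 𝔪).app (DRing.toD T)) ≫ (DRing.RgammaI 𝔪).map (DerivedCategory.Q.map m)
  obtain ⟨y, hy⟩ := (ConcreteCategory.bijective_of_isIso (H.map b)).2 (h0 eK'.hom x)
  have hyne : y ≠ 0 := fun h => hx (injective_hd_map ((DRing.RgammaI 𝔪).map eK'.hom) 0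
    ((hy.symm.trans (by rw [h, map_zero])).trans (map_zero _).symm))
  let y₀ := RGamma.hdEquiv T 0 y
  have hy' : HomologicalComplex.homologyMap (DRing.homCxMap L w) 0 y₀ ≠ 0 := fun h => hyne (by
    haveI : IsIso (HomologicalComplex.homologyMap (DRing.homCxMap L w) 0) := by
      rw [← quasiIsoAt_iff_isIso_homologyMap]; infer_instance
    exact (RGamma.hdEquiv T 0).injective
      (((ConcreteCategory.bijective_of_isIso _).1 (h.trans (map_zero _).symm)).trans (map_zero _).symm))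
  obtain ⟨l, hl, hne⟩ := exists_evCx_ne_zero L (ModuleCat.of A E) hf.isInjective _ hy'
  have hev : HomologicalComplex.homologyMap (evCx L r.gammaI l hl) 0 y₀ ≠ 0 := fun h => hne (by
    rw [← ConcreteCategory.comp_apply, ← HomologicalComplex.homologyMap_comp, evCx_natural,
      HomologicalComplex.homologyMap_comp, ConcreteCategory.comp_apply, h, map_zero])
  have hevH : H.map (DerivedCategory.Q.map (evCx L r.gammaI l hl)) y ≠ 0 := fun h => hev (by
    have e := ConcreteCategory.congr_hom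
      ((DerivedCategory.homologyFunctorFactors (ModuleCat.{u} A) 0).hom.naturality (evCx L r.gammaI l hl)) y
    exact (e.symm.trans (congrArg (fun t => (DerivedCategory.homologyFunctorFactors (ModuleCat.{u} A) 0).hom.app r.gammaI t) h)).trans (map_zero _))
  refine ⟨eK'.hom ≫ DerivedCategory.Q.map (evCx L r.I l hl) ≫ r.iso.hom, fun h => hevH ?_⟩
  rw [h0_comp, h0_comp, ← hy] at h
  have h1 : h0 (DerivedCategory.Q.map (evCx L r.I l hl)) (H.map b y) = 0 :=
    injective_hd_map ((DRing.RgammaI 𝔪).map r.iso.hom) 0 (h.trans (map_zero _).symm)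
  have hcomm : b ≫ (DRing.RgammaI 𝔪).map (DerivedCategory.Q.map (evCx L r.I l hl)) =
      DerivedCategory.Q.map (evCx L r.gammaI l hl) ≫ inv ((DRing.RgammaIε 𝔪).app (DRing.toD r.gammaI)) ≫
        (DRing.RgammaI 𝔪).map (DerivedCategory.Q.map (RGamma.incl 𝔪 r.I)) := by
    rw [Category.assoc, ← Functor.map_comp, ← Functor.map_comp, evCx_natural, Functor.map_comp, Functor.map_comp,
      IsIso.inv_comp_eq, ← Category.assoc, ← Category.assoc]
    congr 1
    rw [IsIso.eq_comp_inv]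
    exact (DRing.RgammaIε 𝔪).naturality _
  refine injective_hd_map (inv ((DRing.RgammaIε 𝔪).app (DRing.toD r.gammaI)) ≫
        (DRing.RgammaI 𝔪).map (DerivedCategory.Q.map (RGamma.incl 𝔪 r.I))) 0 (Eq.trans ?_ (map_zero _).symm)
  have e2 := ConcreteCategory.congr_hom (congrArg H.map hcomm) y
  rw [Functor.map_comp, Functor.map_comp] at e2
  simp only [b, Functor.map_comp] at h1
  refine Eq.trans ?_ (e2.symm.trans h1)
  simp only [H, Functor.map_comp]
  rfl

/-- The pairing. -/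
theorem surjective_h0_iff [DRing.HasRgammaI 𝔪] {ω : Dual.D A} (hω : Dual.IsDualizing A ω) (hn : Dual.IsNormalized A ω) {E : Type u}
    [AddCommGroup E] [Module A E] {f : ResidueField A →ₗ[A] E} (hf : InjHull.IsInjectiveHull f)
    {P Q : Dual.D A} (hP : ∀ i, Module.Finite A (Dual.HD A P i)) (hQ : ∀ i, Module.Finite A (Dual.HD A Q i))
    (g : P ⟶ Q) :
    Function.Surjective (h0 g) ↔ Function.Injective (fun φ : Q ⟶ ω => g ≫ φ) := by
  obtain ⟨r⟩ := DualCx22.nonempty_injRep hω
  obtain ⟨eω⟩ := r.nonempty_rgamma_iso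
  obtain ⟨eg⟩ := r.nonempty_gammaI_iso hω hn hf
  let e : Dual.HD A ((DRing.RgammaI 𝔪).obj ω) 0 ≃ₗ[A] E :=
    ((DerivedCategory.homologyFunctor (ModuleCat.{u} A) 0).mapIso (eω ≪≫ eg) ≪≫
      (DerivedCategory.singleFunctorCompHomologyFunctorIso (ModuleCat.{u} A) 0).app (ModuleCat.of A E)).toLinearEquiv
  have hpair : ∀ X : Dual.D A, (∀ i, Module.Finite A (Dual.HD A X i)) →
      ∃ (N : ModuleCat.{u} A) (_ : Module.Finite A N) (eN : N ≃ₗ[A] (X ⟶ ω))
        (η : Dual.HD A ((DRing.RgammaI 𝔪).obj X) 0 →ₗ[A] (N →ₗ[A] E)),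
        Function.Bijective η ∧ ∀ x n, η x n = e (h0 (eN n) x) := fun X hX => by
    obtain ⟨N, hN, ⟨eN'⟩⟩ := DualCx22.exists_finite_hom_equiv hω X hX 0
    haveI := hN
    let eN : N ≃ₗ[A] (X ⟶ ω) := eN'.trans (Linear.homCongr A (Iso.refl X) ((shiftFunctorZero (Dual.D A) ℤ).app ω))
    let η : Dual.HD A ((DRing.RgammaI 𝔪).obj X) 0 →ₗ[A] (N →ₗ[A] E) :=
      LinearMap.mk₂ A (fun x n => e (h0 (eN n) x)) (fun x y n => by rw [map_add, map_add])
        (fun a x n => by rw [map_smul, map_smul])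
        (fun x n n' => by
          show e (((DerivedCategory.homologyFunctor (ModuleCat.{u} A) 0).map ((DRing.RgammaI 𝔪).map (eN (n + n')))).hom x) = _
          rw [map_add eN, rgamma_map_add, Functor.map_add, ModuleCat.hom_add, LinearMap.add_apply, map_add])
        (fun a x n => by
          show e (((DerivedCategory.homologyFunctor (ModuleCat.{u} A) 0).map ((DRing.RgammaI 𝔪).map (eN (a • n)))).hom x) = _
          rw [map_smul eN, rgamma_map_smul, hd_map_smul, ModuleCat.hom_smul, LinearMap.smul_apply, map_smul])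
    have hinj : Function.Injective η := (injective_iff_map_eq_zero _).2 fun x hx => by
      by_contra hne
      obtain ⟨φ, hφ⟩ := exists_hom_ne_zero hω hn hf X hX x hne
      refine hφ (e.injective ?_)
      have := LinearMap.congr_fun hx (eN.symm φ)
      rw [map_zero]
      simpa [η] using this
    obtain ⟨a⟩ := RGamma.nonempty_HD_equiv_HDI 𝔪 X 0
    obtain ⟨b⟩ := DualCx22.nonempty_local_duality hω hn hf X hX 0
    let c : Dual.HD A ((DRing.RgammaI 𝔪).obj X) 0 ≃ₗ[A] (N →ₗ[A] E) :=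
      a.trans (b.trans ((eN'.trans (Linear.homCongr A (Iso.refl X) (eqToIso (show ω⟦(0 : ℤ)⟧ = ω⟦(-0 : ℤ)⟧ by rw [neg_zero])))).congrLeft E A).symm)
    haveI : IsArtinian A (N →ₗ[A] E) := Matlis.isArtinian_dual hf N
    have hsurj : Function.Surjective (η ∘ₗ c.symm.toLinearMap) :=
      IsArtinian.surjective_of_injective_endomorphism _ (hinj.comp c.symm.injective)
    exact ⟨N, hN, eN, η, ⟨hinj, fun ψ => ⟨_, (hsurj ψ).choose_spec⟩⟩, fun x n => rfl⟩
  obtain ⟨N₁, _, e₁, η₁, h₁, k₁⟩ := hpair P hP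
  obtain ⟨N₂, _, e₂, η₂, h₂, k₂⟩ := hpair Q hQ
  let gs : N₂ →ₗ[A] N₁ := e₁.symm.toLinearMap ∘ₗ (Linear.leftComp A ω g) ∘ₗ e₂.toLinearMap
  have hgs : ∀ x n, η₂ (h0 g x) n = η₁ x (gs n) := fun x n => by
    rw [k₁, k₂]
    show _ = e (h0 (e₁ (e₁.symm (g ≫ e₂ n))) x)
    rw [LinearEquiv.apply_symm_apply, h0_comp]
  constructor
  · intro hs φ₁ φ₂ hφ
    rw [← sub_eq_zero]
    by_contra hne
    have hn0 : e₂.symm (φ₁ - φ₂) ≠ 0 := fun h => hne (by simpa using congrArg e₂ h)
    obtain ⟨ψ, hψ⟩ := Matlis.exists_apply_ne_zero hf hn0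
    obtain ⟨y, rfl⟩ := h₂.2 ψ
    obtain ⟨x, rfl⟩ := hs y
    refine hψ ((hgs x _).trans ?_)
    have : gs (e₂.symm (φ₁ - φ₂)) = 0 := by
      show e₁.symm (g ≫ e₂ (e₂.symm (φ₁ - φ₂))) = 0
      rw [LinearEquiv.apply_symm_apply, Preadditive.comp_sub, sub_eq_zero.2 hφ, map_zero]
    rw [this, map_zero]
  · intro hi y
    have hgi : Function.Injective gs := fun a b hab => e₂.injective (hi (e₁.symm.injective hab))
    obtain ⟨ψ, hψ⟩ := Matlis.lcomp_surjective hf.isInjective gs hgi (η₂ y)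
    obtain ⟨x, rfl⟩ := h₁.2 ψ
    exact ⟨x, h₂.1 (LinearMap.ext fun n => (hgs x n).trans (LinearMap.congr_fun hψ n))⟩

end GrothLib.GlobDual22
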