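import Groth.Agent.Lib.RGamma.Soft
import Groth.Prelude.Def_Wider
import Groth.Prelude.Def_Coh
import Mathlib.AlgebraicGeometry.Modules.Tilde
import Mathlib.Topology.Sheaves.Flasque

/-! Sections of a tilde vanishing off a closed set; flasque tildes are soft. -/

set_option linter.style.haveILetI false
set_option backward.isDefEq.respectTransparency false

universe u

open CategoryTheory CategoryTheory.Limits AlgebraicGeometry Opposite TopologicalSpace

namespace GrothLib.GlobDual22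

variable {A : CommRingCat.{u}} (N : ModuleCat.{u} A)

/-- Basic opens. -/
abbrev bo (a : A) : (Spec A).Opens := PrimeSpectrum.basicOpen a

theorem toOpen_res' {U V : (Spec A).Opens} (h : V ≤ U) (n : N) :
    (modulesSpecToSheaf.obj (tilde N)).presheaf.map (homOfLE h).op (tilde.toOpen N U n) =
      tilde.toOpen N V n :=
  ConcreteCategory.congr_hom (tilde.toOpen_res N U V (homOfLE h)) n

theorem toOpen_basic_eq_zero_iff (a : A) (n : N) :
    tilde.toOpen N (bo a) n = 0 ↔ ∃ k : ℕ, a ^ k • n = 0 := by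
  rw [IsLocalizedModule.eq_zero_iff (Submonoid.powers a) (tilde.toOpen N (bo a)).hom]
  exact ⟨fun ⟨⟨_, k, rfl⟩, h⟩ => ⟨k, h⟩, fun ⟨k, h⟩ => ⟨⟨_, k, rfl⟩, h⟩⟩

theorem bo_le_puncturedOpen {J : Ideal A} {a : A} (ha : a ∈ J) : bo a ≤ LocCoh.puncturedOpen A J := fun p hp hz =>
  (PrimeSpectrum.mem_basicOpen _ _).1 hp ((PrimeSpectrum.mem_zeroLocus _ _).1 hz ha)

theorem puncturedOpen_le_iSup {J : Ideal A} {s : Set A} (hs : Ideal.span s = J) :
    LocCoh.puncturedOpen A J ≤ ⨆ a : s, bo (a : A) := fun p hp => by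
  rw [Opens.mem_iSup]
  by_contra hne
  refine hp ((PrimeSpectrum.mem_zeroLocus _ _).2 ?_)
  have h : (J : Ideal A) ≤ p.asIdeal := hs ▸ Ideal.span_le.2 fun a ha => by
    by_contra hh
    exact hne ⟨⟨a, ha⟩, (PrimeSpectrum.mem_basicOpen _ _).2 hh⟩
  exact h

/-- A section vanishes off `V(J)` iff it is `J`-power torsion. -/
theorem toOpen_punctured_eq_zero_iff {J : Ideal A} (hJ : J.FG) (n : N) :
    tilde.toOpen N (LocCoh.puncturedOpen A J) n = 0 ↔ n ∈ DRing.torsionSub J N := by
  classical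
  obtain ⟨s, hs⟩ := hJ
  constructor
  · intro h
    have hk : ∀ a : s, ∃ k : ℕ, (a : A) ^ k • n = 0 := fun a => by
      have ha : (a : A) ∈ J := hs ▸ Ideal.subset_span a.2
      refine (toOpen_basic_eq_zero_iff N (a : A) n).1 ?_
      rw [← toOpen_res' N (bo_le_puncturedOpen ha) n, h, map_zero]
    choose k hk using hk
    let K := Finset.univ.sup k
    have hrad : J ≤ (Submodule.annihilator (Submodule.span A {n})).radical := by
      rw [← hs]
      refine Ideal.span_le.2 fun a ha => ⟨k ⟨a, ha⟩, ?_⟩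
      rw [Submodule.mem_annihilator_span_singleton]
      exact hk ⟨a, ha⟩
    obtain ⟨m, hm⟩ := Ideal.exists_pow_le_of_le_radical_of_fg hrad ⟨s, hs⟩
    exact ⟨m, fun a ha => (Submodule.mem_annihilator_span_singleton _ _).1 (hm ha)⟩
  · rintro ⟨m, hm⟩
    refine TopCat.Sheaf.eq_of_locally_eq' (modulesSpecToSheaf.obj (tilde N))
      (fun a : (s : Set A) => bo (a : A)) _ (fun a => homOfLE (bo_le_puncturedOpen (hs ▸ Ideal.subset_span a.2)))
      (puncturedOpen_le_iSup hs) _ _ fun a => ?_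
    refine ((toOpen_res' N _ n).trans ?_).trans (map_zero _).symm
    exact (toOpen_basic_eq_zero_iff N _ n).2 ⟨m, hm _ (Ideal.pow_mem_pow (hs ▸ Ideal.subset_span a.2) m)⟩

/-- A flasque tilde gives a soft module. -/
theorem isSoft_of_flasque [IsNoetherianRing A]
    (h : TopCat.Sheaf.IsFlasque (Coh.toAb (tilde N))) : RGamma.IsSoft (A := A) N := by
  intro J f x hx k
  classical
  let F := modulesSpecToSheaf.obj (tilde N)
  obtain ⟨v, hv⟩ : ∃ v : F.presheaf.obj (op (bo f)), f ^ k • v = tilde.toOpen N (bo f) x := by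
    refine ⟨IsLocalizedModule.mk' (tilde.toOpen N (bo f)).hom x (⟨f ^ k, k, rfl⟩ : Submonoid.powers f), ?_⟩
    exact IsLocalizedModule.mk'_cancel' (f := (tilde.toOpen N (bo f)).hom) x (⟨f ^ k, k, rfl⟩ : Submonoid.powers f)
  let U := LocCoh.puncturedOpen A J
  have hx0 : tilde.toOpen N U x = 0 := (toOpen_punctured_eq_zero_iff N (IsNoetherian.noetherian J) x).2 hx
  have hv0 : F.presheaf.map (homOfLE (inf_le_left : bo f ⊓ U ≤ bo f)).op v = 0 := by
    have hu : IsSMulRegular (F.presheaf.obj (op (bo f ⊓ U))) (f ^ k) :=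
      ((tilde N).isSMulRegular_of_le_basicOpen (inf_le_left : bo f ⊓ U ≤ bo f)).pow k
    refine hu ?_
    show f ^ k • _ = f ^ k • 0
    rw [← map_smul, hv, smul_zero, toOpen_res' N inf_le_left x, ← toOpen_res' N (inf_le_right : bo f ⊓ U ≤ U) x, hx0,
      map_zero]
  let Us : Bool → (Spec A).Opens := fun b => cond b (bo f) U
  let sf : ∀ b, F.presheaf.obj (op (Us b)) := fun b => match b with
    | true => v
    | false => 0
  have hc : TopCat.Presheaf.IsCompatible F.presheaf Us sf := by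
    rintro (_ | _) (_ | _)
    · rfl
    · refine (map_zero _).trans ?_
      refine (Eq.trans ?_ (map_zero (F.presheaf.map (homOfLE (show U ⊓ bo f ≤ bo f ⊓ U from le_of_eq (inf_comm _ _))).op).hom)).symm
      rw [← hv0, ← ConcreteCategory.comp_apply, ← F.presheaf.map_comp]
      rfl
    · refine Eq.trans ?_ (map_zero _).symm
      exact hv0
    · rfl
  obtain ⟨w, hw, -⟩ := TopCat.Sheaf.existsUnique_gluing' F Us (bo f ⊔ U)
    (fun b => homOfLE (by cases b <;> simp [Us]))
    (sup_le (le_iSup_of_le true le_rfl) (le_iSup_of_le false le_rfl)) sf hc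
  haveI := h
  obtain ⟨w', hw'⟩ := (AddCommGrpCat.epi_iff_surjective _).1
    (TopCat.Presheaf.IsFlasque.epi (F := (Coh.toAb (tilde N)).obj) (homOfLE (le_top : bo f ⊔ U ≤ ⊤)).op) w
  obtain ⟨y, rfl⟩ := (ConcreteCategory.bijective_of_isIso (tilde.toOpen N ⊤)).2 w'
  have hy : ∀ b, tilde.toOpen N (Us b) y = sf b := fun b => by
    rw [← hw b, ← toOpen_res' N (show Us b ≤ bo f ⊔ U by cases b <;> simp [Us]) y]
    refine congrArg _ ?_
    exact (toOpen_res' N (le_top : bo f ⊔ U ≤ ⊤) y).symm.trans hw'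
  refine ⟨y, (toOpen_punctured_eq_zero_iff N (IsNoetherian.noetherian J) y).1 (hy false), ?_⟩
  obtain ⟨m, hm⟩ := (toOpen_basic_eq_zero_iff N f (f ^ k • y - x)).1 (by
    rw [map_sub, map_smul, show tilde.toOpen N (bo f) y = v from hy true, hv, sub_self])
  exact ⟨m, hm⟩

end GrothLib.GlobDual22
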