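import Groth.Agent.Lib.GlobDual22.Acyc
import Groth.Agent.Lib.GlobDual22.Soft
import Groth.Agent.Lib.CohExtend20.Resolution
import Groth.Agent.Lib.OX.RpushQCoh
import Groth.Agent.Lib.OX.TildeD
import Groth.Agent.Lib.QCoh.Qcqs
import Groth.Agent.Lib.Cohom.InjModule
import Groth.Agent.Lib.RGamma.HDI
import Groth.Agent.Lib.RGamma.Noeth
import Groth.Agent.Lib.DualCx22.LocalCohD
import Groth.Prelude.Def_LocCohZ
import Groth.Agent.S6023

/-! Local cohomology along the closed fibre through a quasi-coherent injective resolution. -/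

set_option autoImplicit false
set_option maxHeartbeats 1600000
set_option linter.style.haveILetI false
set_option backward.isDefEq.respectTransparency false

universe u

open CategoryTheory CategoryTheory.Limits AlgebraicGeometry Opposite TopologicalSpace

attribute [local instance] HasDerivedCategory.standard

noncomputable section

namespace GrothLib.GlobDual22

variable {R : CommRingCat.{u}} {X : Scheme.{u}} (f : X ⟶ Spec R)

/-- The `R`-module of global sections. -/
abbrev secR : X.Modules ⥤ ModuleCat.{u} R := Scheme.Modules.pushforward f ⋙ moduleSpecΓFunctor (R := R)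

theorem secR_eq (M : X.Modules) : ((secR f).obj M : Type u) = Γ(M, f ⁻¹ᵁ ⊤) := rfl

theorem torsion_iff [QuasiCompact f] [QuasiSeparated f] (J : X.Modules) [J.IsQuasicoherent] {I : Ideal R}
    (hI : I.FG) (s : (secR f).obj J) :
    J.presheaf.map (homOfLE (show f ⁻¹ᵁ (LocCoh.puncturedOpen R I) ≤ f ⁻¹ᵁ ⊤ from fun _ _ => trivial)).op
        (show Γ(J, f ⁻¹ᵁ ⊤) from s) = 0 ↔
      s ∈ DRing.torsionSub I ((secR f).obj J) := by
  let N := (Scheme.Modules.pushforward f).obj J
  haveI : N.IsQuasicoherent := QCoh.isQuasicoherent_pushforward f _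
  haveI : IsIso N.fromTildeΓ := Scheme.Modules.isIso_fromTildeΓ_of_isQuasicoherent _
  rw [← toOpen_punctured_eq_zero_iff ((secR f).obj J) hI s]
  have e := ConcreteCategory.congr_hom (Scheme.Modules.toOpen_fromTildeΓ_app N (LocCoh.puncturedOpen R I)) s
  have hb : Function.Injective (((modulesSpecToSheaf.map N.fromTildeΓ).hom.app (op (LocCoh.puncturedOpen R I))).hom) :=
    (ConcreteCategory.bijective_of_isIso _).1
  constructor
  · intro h
    refine hb (e.trans ?_)
    rw [map_zero]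
    exact h
  · intro h
    exact e.symm.trans ((congrArg (((modulesSpecToSheaf.map N.fromTildeΓ).hom.app (op (LocCoh.puncturedOpen R I))).hom) h).trans
      (((modulesSpecToSheaf.map N.fromTildeΓ).hom.app (op (LocCoh.puncturedOpen R I))).hom.map_zero))

theorem isSoft_secR [IsNoetherianRing R] [QuasiCompact f] [QuasiSeparated f] (J : X.Modules) [J.IsQuasicoherent]
    [Injective J] : RGamma.IsSoft (A := R) ((secR f).obj J) := by
  let N := (Scheme.Modules.pushforward f).obj J
  haveI : N.IsQuasicoherent := QCoh.isQuasicoherent_pushforward f _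
  haveI : IsIso N.fromTildeΓ := Scheme.Modules.isIso_fromTildeΓ_of_isQuasicoherent _
  refine isSoft_of_flasque ((secR f).obj J) ⟨fun {U V} i => ?_⟩
  haveI := Cohom.isFlasque_toAb_of_injective J
  haveI : Epi ((Coh.toAb N).obj.map i) := TopCat.Presheaf.IsFlasque.epi (F := ((QCoh.toAbFun X).obj J).obj)
    ((Opens.map f.base).op.map i)
  let e := (SheafOfModules.toSheaf (Spec R).ringCatSheaf).mapIso (asIso N.fromTildeΓ)
  haveI : ∀ W, IsIso (e.hom.hom.app W) := fun W => inferInstanceAs (IsIso (((sheafToPresheaf _ _).mapIso e).app W).hom)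
  have h := e.hom.hom.naturality i
  haveI : Epi (((SheafOfModules.toSheaf (Spec R).ringCatSheaf).obj N).obj.map i) := ‹Epi ((Coh.toAb N).obj.map i)›
  have h' := (IsIso.eq_comp_inv (e.hom.hom.app V)).2 h
  haveI : Epi (((SheafOfModules.toSheaf (Spec R).ringCatSheaf).obj (tilde ((secR f).obj J))).obj.map i) := by
    exact h'.symm ▸ (inferInstance : Epi ((e.hom.hom.app U ≫ ((SheafOfModules.toSheaf (Spec R).ringCatSheaf).obj N).obj.map i) ≫
      inv (e.hom.hom.app V)))
  exact this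

/-- Maps out of `ℤ_X/ℤ_U` into the underlying sheaf of a module. -/
def zEquiv (U : X.Opens) (J : X.Modules) :
    (LocCohZ.zq (X := X.carrier) (le_top : U ≤ ⊤) ⟶ Coh.toAb J) ≃+
      LocCohZ.sectZ (Coh.toAb J) (le_top : U ≤ ⊤) :=
  Abelian.Ext.addEquiv₀.symm.trans (LocCohZ.sect0Equiv _ _)

theorem zEquiv_apply (U : X.Opens) (J : X.Modules) (φ : LocCohZ.zq (X := X.carrier) (le_top : U ≤ ⊤) ⟶ Coh.toAb J) :
    (zEquiv U J φ).1 = CohFree.evalGen (Opens.grothendieckTopology X) ⊤ (Coh.toAb J)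
      (cokernel.π (CohCx.freeSheafMap (Opens.grothendieckTopology X) (homOfLE (le_top : U ≤ ⊤))) ≫ φ) := by
  change CohFree.evalGen _ _ _ (_ ≫ Abelian.Ext.addEquiv₀ (Abelian.Ext.addEquiv₀.symm φ)) = _
  rw [AddEquiv.apply_symm_apply]

theorem zEquiv_comp (U : X.Opens) {J J' : X.Modules} (g : J ⟶ J')
    (φ : LocCohZ.zq (X := X.carrier) (le_top : U ≤ ⊤) ⟶ Coh.toAb J) :
    (zEquiv U J' (φ ≫ (QCoh.toAbFun X).map g)).1 = g.app ⊤ (zEquiv U J φ).1 := by
  rw [zEquiv_apply, zEquiv_apply, ← Category.assoc]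
  rfl

variable [IsNoetherianRing R] [QuasiCompact f] [QuasiSeparated f] [IsLocallyNoetherian X] (I : Ideal R)

/-- The closed fibre is the complement of this open. -/
abbrev offZ : X.Opens := f ⁻¹ᵁ (LocCoh.puncturedOpen R I)

/-- Maps out of `ℤ_X/ℤ_U` are the torsion sections. -/
def zTors (J : X.Modules) [J.IsQuasicoherent] :
    (LocCohZ.zq (X := X.carrier) (le_top : offZ f I ≤ ⊤) ⟶ Coh.toAb J) ≃+ DRing.torsionSub I ((secR f).obj J) where
  toFun φ := ⟨(zEquiv (offZ f I) J φ).1, (torsion_iff f J (IsNoetherian.noetherian I) _).1 (zEquiv (offZ f I) J φ).2⟩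
  invFun s := (zEquiv (offZ f I) J).symm ⟨s.1, (torsion_iff f J (IsNoetherian.noetherian I) _).2 s.2⟩
  left_inv φ := (zEquiv (offZ f I) J).symm_apply_apply φ
  right_inv s := Subtype.ext (congrArg (fun z : LocCohZ.sectZ (Coh.toAb J) (le_top : offZ f I ≤ ⊤) => z.1)
    ((zEquiv (offZ f I) J).apply_symm_apply ⟨s.1, (torsion_iff f J (IsNoetherian.noetherian I) _).2 s.2⟩))
  map_add' φ ψ := Subtype.ext (congrArg (fun z : LocCohZ.sectZ (Coh.toAb J) (le_top : offZ f I ≤ ⊤) => z.1) (map_add (zEquiv (offZ f I) J) φ ψ))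

theorem zTors_comp {J J' : X.Modules} [J.IsQuasicoherent] [J'.IsQuasicoherent] (g : J ⟶ J')
    (φ : LocCohZ.zq (X := X.carrier) (le_top : offZ f I ≤ ⊤) ⟶ Coh.toAb J) :
    (zTors f I J' (φ ≫ (QCoh.toAbFun X).map g)).1 = (secR f).map g (zTors f I J φ).1 :=
  zEquiv_comp (offZ f I) g φ

variable [PreservesFiniteLimits (tilde.functor R)] [DCoh.HasRpush f]

/-- `Rf_*` of a module is the tilde of a complex `M` of soft modules whose `Γ_I` computes the vanishing of
the local cohomology along the preimage of `V(I)`. -/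
theorem exists_model (F : X.Modules) [F.IsQuasicoherent] :
    ∃ P : Dual.D R, Nonempty ((DCoh.tildeD R).obj P ≅ (DCoh.Rpush f).obj (DCoh.inD X F)) ∧
      (∀ i : ℕ, Subsingleton (LocCohZ.HZM X F i (offZ f I)) ↔ Subsingleton (Dual2.HDI R I P (i : ℤ))) ∧
      ∀ q : ℤ, q < 0 → Subsingleton (Dual2.HDI R I P q) := by
  haveI : EnoughInjectives X.Modules := SheafCoh.enoughInjectives_sheafOfModules X.ringCatSheaf
  let Ri := CohExtend20.resolution F
  let K := Ri.cochainComplex
  haveI : K.IsKInjective := CochainComplex.isKInjective_of_injective K 0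
  have hKq : ∀ n, (K.X n).IsQuasicoherent := fun n => by
    by_cases h : 0 ≤ n
    · obtain ⟨m, rfl⟩ := Int.eq_ofNat_of_zero_le h
      exact OX.isQCoh_of_iso (Ri.cochainComplexXIso (m : ℤ) m rfl).symm (CohExtend20.qcoh_seq F m).1
    · exact OX.isQCoh_of_isZero (K.isZero_of_isStrictlyGE 0 n (by omega))
  have hKi : ∀ n, Injective (K.X n) := fun n => inferInstance
  haveI : IsIso (DerivedCategory.Q.map Ri.ι') := Localization.inverts _ (HomologicalComplex.quasiIso _ (ComplexShape.up ℤ)) _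
    ((HomologicalComplex.mem_quasiIso_iff _).2 inferInstance)
  let eK : DCoh.inD X F ≅ DerivedCategory.Q.obj K :=
    (DerivedCategory.singleFunctorIsoCompQ X.Modules 0).app F ≪≫ asIso (DerivedCategory.Q.map Ri.ι')
  let q' := HomotopyCategory.quotient X.Modules (ComplexShape.up ℤ)
  haveI : IsIso ((KInj.resAdj X.Modules).unit.app (q'.obj K)) :=
    KInj.isIso_unit_of_rightOrthogonal (CochainComplex.IsKInjective.rightOrthogonal K)
  let T := ((Scheme.Modules.pushforward f).mapHomologicalComplex (ComplexShape.up ℤ)).obj K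
  let eR : (DCoh.Rpush f).obj (DerivedCategory.Q.obj K) ≅ DerivedCategory.Q.obj T :=
    (OX.rpushIsoRres f).app _ ≪≫ DerivedCategory.Qh.mapIso
      (((Scheme.Modules.pushforward f).mapHomotopyCategory (ComplexShape.up ℤ)).mapIso
        ((KInj.res _).mapIso ((DerivedCategory.quotientCompQhIso _).app K).symm ≪≫
          (asIso ((KInj.resAdj X.Modules).unit.app (q'.obj K))).symm) ≪≫
        ((Scheme.Modules.pushforward f).mapHomotopyCategoryFactors (ComplexShape.up ℤ)).app K) ≪≫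
      (DerivedCategory.quotientCompQhIso _).app T
  haveI hT : ∀ n, (T.X n).IsQuasicoherent := fun n => haveI := hKq n; QCoh.isQuasicoherent_pushforward f _
  haveI := tilde.adjunction (R := R).right_adjoint_additive
  let M := ((secR f).mapHomologicalComplex (ComplexShape.up ℤ)).obj K
  let eT : ((tilde.functor R).mapHomologicalComplex (ComplexShape.up ℤ)).obj M ≅ T :=
    HomologicalComplex.Hom.isoOfComponents
      (fun n => haveI : IsIso (T.X n).fromTildeΓ := Scheme.Modules.isIso_fromTildeΓ_of_isQuasicoherent _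
        asIso (T.X n).fromTildeΓ)
      (fun n m _ => ((Scheme.Modules.fromTildeΓNatTrans (R := R)).naturality (T.d n m)).symm)
  refine ⟨DerivedCategory.Q.obj M, ⟨(tilde.functor R).mapDerivedCategoryFactors.app M ≪≫
    DerivedCategory.Q.mapIso eT ≪≫ eR.symm ≪≫ (DCoh.Rpush f).mapIso eK.symm⟩, ?_⟩
  haveI := DualCx22.hasRgammaI (A := R) I
  have hM : ∀ n, RGamma.IsSoft (A := R) (M.X n) := fun n => haveI := hKq n; isSoft_secR f (K.X n)
  haveI := RGamma.isIso_comp_of_soft I M hM
  let G := RGamma.gammaCx I M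
  have hH : ∀ q : ℤ, Subsingleton (Dual2.HDI R I (DerivedCategory.Q.obj M) q) ↔ IsZero (G.homology q) := fun q => by
    obtain ⟨a⟩ := RGamma.nonempty_HD_equiv_HDI I (DerivedCategory.Q.obj M) q
    rw [← ((RGamma.hdEquiv G q).symm.trans
      ((RGamma.hdIso (asIso (RGamma.comp I M)) q).trans a)).toEquiv.subsingleton_congr]
    exact (ModuleCat.isZero_iff_subsingleton).symm
  have hneg : ∀ q : ℤ, q < 0 → IsZero (M.X q) := fun q hq =>
    (secR f).map_isZero (K.isZero_of_isStrictlyGE 0 q hq)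
  refine ⟨fun i => ?_, fun q hq => (hH q).2 ?_⟩
  swap
  · refine HomologicalComplex.ExactAt.isZero_homology ?_
    exact HomologicalComplex.ExactAt.of_isZero ((DRing.gammaI I).map_isZero (hneg q hq))
  let Ab := QCoh.toAbFun X
  let Z := LocCohZ.zq (X := X.carrier) (le_top : offZ f I ≤ ⊤)
  let J : ℕ → X.Modules := fun p => K.X (p : ℤ)
  let d : ∀ p : ℕ, Ab.obj (J p) ⟶ Ab.obj (J (p + 1)) := fun p => Ab.map (K.d (p : ℤ) ((p + 1 : ℕ) : ℤ))
  let e : F ⟶ K.X 0 := Ri.ι.f 0 ≫ (Ri.cochainComplexXIso 0 0 rfl).inv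
  haveI : Mono e := mono_comp _ _
  have hde : e ≫ K.d 0 1 = 0 := by
    rw [Ri.cochainComplex_d 0 1 0 1 rfl rfl, Category.assoc, Iso.inv_hom_id_assoc, ← Category.assoc,
      Ri.ι_f_zero_comp_complex_d, zero_comp]
  have hex₀ : (ShortComplex.mk e (K.d 0 1) hde).Exact := by
    refine (ShortComplex.exact_iff_of_iso (ShortComplex.isoMk (S₁ := ShortComplex.mk e (K.d 0 1) hde)
      (S₂ := ShortComplex.mk _ _ Ri.ι_f_zero_comp_complex_d) (Iso.refl _) (Ri.cochainComplexXIso 0 0 rfl)
      (Ri.cochainComplexXIso 1 1 rfl) ?_ ?_)).2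
      (ShortComplex.exact_of_f_is_kernel (ShortComplex.mk _ _ Ri.ι_f_zero_comp_complex_d) Ri.isLimitKernelFork)
    · simp [e]
    · dsimp
      rw [Ri.cochainComplex_d 0 1 0 1 rfl rfl]
      simp
  have hexK : ∀ p : ℕ, (ShortComplex.mk (K.d (p : ℤ) (p + 1 : ℤ)) (K.d (p + 1 : ℤ) (p + 1 + 1 : ℤ))
      (K.d_comp_d _ _ _)).Exact := fun p => by
    refine (ShortComplex.exact_iff_of_iso (ShortComplex.isoMk (Ri.cochainComplexXIso (p : ℤ) p rfl)
      (Ri.cochainComplexXIso (p + 1 : ℤ) (p + 1) (by omega)) (Ri.cochainComplexXIso (p + 1 + 1 : ℤ) (p + 1 + 1) (by omega))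
      ?_ ?_)).2 (Ri.exact_succ p)
    · dsimp
      rw [Ri.cochainComplex_d (p : ℤ) (p + 1 : ℤ) p (p + 1) rfl (by omega)]
      simp
    · dsimp
      rw [Ri.cochainComplex_d (p + 1 : ℤ) (p + 1 + 1 : ℤ) (p + 1) (p + 1 + 1) (by omega) (by omega)]
      simp
  haveI : PreservesFiniteLimits Ab := inferInstance
  haveI : PreservesFiniteColimits Ab := inferInstance
  have hJ : ∀ p i : ℕ, Subsingleton (Abelian.Ext.{u} Z (Ab.obj (J p)) (i + 1)) := fun p i =>
    haveI := Cohom.isFlasque_toAb_of_injective (J p)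
    (Groth.Agent.S6023.result (Ab.obj (J p))).1 _ _ (le_top : offZ f I ≤ ⊤) (i + 1) i.succ_pos
  haveI : Mono (Ab.map e) := inferInstance
  obtain ⟨h0, hp⟩ := subsingleton_ext_iff_cocycles Z (fun p => Ab.obj (J p)) d (Ab.map e)
    (fun p => by rw [← Functor.map_comp, K.d_comp_d, Functor.map_zero])
    (by rw [← Functor.map_comp]; exact (congrArg Ab.map hde).trans (Ab.map_zero _ _))
    (hex₀.map Ab) (fun p => (hexK p).map Ab) hJ
  haveI : ∀ p : ℕ, (J p).IsQuasicoherent := fun p => hKq _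
  let τ := fun p : ℕ => zTors f I (J p)
  have hd : ∀ (p : ℕ) (φ : Z ⟶ Ab.obj (J p)),
      (τ (p + 1) (φ ≫ d p) : DRing.torsionSub I ((secR f).obj (J (p + 1)))) =
        G.d (p : ℤ) ((p + 1 : ℕ) : ℤ) (τ p φ) := fun p φ =>
    Subtype.ext (zTors_comp f I (K.d (p : ℤ) ((p + 1 : ℕ) : ℤ)) φ)
  rw [hH, ← HomologicalComplex.exactAt_iff_isZero_homology]
  cases i with
  | zero =>
    refine h0.trans ?_
    rw [HomologicalComplex.exactAt_iff' G (-1) ((0 : ℕ) : ℤ) ((0 + 1 : ℕ) : ℤ) (by simp) (by simp),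
      ShortComplex.moduleCat_exact_iff]
    refine ⟨fun h x hx => ⟨0, ?_⟩, fun h φ hφ => ?_⟩
    · rw [map_zero]
      obtain ⟨φ, rfl⟩ := (τ 0).surjective x
      rw [h φ ((τ 1).injective ((hd 0 φ).trans (hx.trans (map_zero (τ 1)).symm))), map_zero]
    · obtain ⟨y, hy⟩ := h (τ 0 φ) ((hd 0 φ).symm.trans ((congrArg (τ 1) hφ).trans (map_zero _)))
      have hs : Subsingleton (G.X (-1)) :=
        ModuleCat.subsingleton_of_isZero ((DRing.gammaI I).map_isZero (hneg (-1) (by omega)))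
      refine (τ 0).injective (hy.symm.trans ?_)
      rw [show y = 0 from @Subsingleton.elim _ hs y 0, map_zero, map_zero]
  | succ p =>
    refine (hp p).trans ?_
    rw [HomologicalComplex.exactAt_iff' G (p : ℤ) ((p + 1 : ℕ) : ℤ) ((p + 1 + 1 : ℕ) : ℤ) (by simp) (by simp),
      ShortComplex.moduleCat_exact_iff]
    refine ⟨fun h x hx => ?_, fun h φ hφ => ?_⟩
    · obtain ⟨φ, rfl⟩ := (τ (p + 1)).surjective x
      obtain ⟨ψ, hψ⟩ := h φ ((τ (p + 2)).injective ((hd (p + 1) φ).trans (hx.trans (map_zero _).symm)))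
      exact ⟨τ p ψ, (hd p ψ).symm.trans (congrArg (τ (p + 1)) hψ)⟩
    · obtain ⟨y, hy⟩ := h (τ (p + 1) φ) ((hd (p + 1) φ).symm.trans ((congrArg (τ (p + 2)) hφ).trans (map_zero _)))
      obtain ⟨ψ, rfl⟩ := (τ p).surjective y
      exact ⟨ψ, (τ (p + 1)).injective ((hd p ψ).trans hy)⟩

end GrothLib.GlobDual22
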