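import Groth.Agent.Lib.GlobDual22.ModelNat
import Groth.Agent.Lib.GlobDual22.AcycHom

/-! The local cohomology groups along the closed fibre through the model. -/

set_option autoImplicit false
set_option maxHeartbeats 1600000
set_option linter.style.haveILetI false
set_option backward.isDefEq.respectTransparency false

universe u

open CategoryTheory CategoryTheory.Limits AlgebraicGeometry Opposite TopologicalSpace

attribute [local instance] HasDerivedCategory.standard

noncomputable section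

namespace GrothLib.GlobDual22

variable {R : CommRingCat.{u}} [IsNoetherianRing R] {X : Scheme.{u}} (f : X ⟶ Spec R)
  [QuasiCompact f] [QuasiSeparated f] [IsLocallyNoetherian X] (I : Ideal R)

/-- The model complex of a quasi-coherent module. -/
abbrev modelCx (F : X.Modules) [F.IsQuasicoherent] : CochainComplex (ModuleCat.{u} R) ℤ :=
  (secCx f).obj (CohExtend20.resolution F).cochainComplex

theorem nonempty_HZM_equiv_HDI (F : X.Modules) [F.IsQuasicoherent] (i : ℕ) :
    Nonempty (LocCohZ.HZM X F i (offZ f I) ≃+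
      Dual2.HDI R I (DerivedCategory.Q.obj (modelCx f F)) (i : ℤ)) := by
  haveI : EnoughInjectives X.Modules := SheafCoh.enoughInjectives_sheafOfModules X.ringCatSheaf
  let Ri := CohExtend20.resolution F
  let K := Ri.cochainComplex
  haveI : K.IsKInjective := CochainComplex.isKInjective_of_injective K 0
  have hKq : ∀ n, (K.X n).IsQuasicoherent := fun n => by
    by_cases h : 0 ≤ n
    · obtain ⟨m, rfl⟩ := Int.eq_ofNat_of_zero_le h
      exact OX.isQCoh_of_iso (Ri.cochainComplexXIso (m : ℤ) m rfl).symm (CohExtend20.qcoh_seq F m).1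
    · exact OX.isQCoh_of_isZero (K.isZero_of_isStrictlyGE 0 n (by omega))
  have hKi : ∀ n, Injective (K.X n) := fun n => inferInstance
  let M := (secCx f).obj K
  haveI := DualCx22.hasRgammaI (A := R) I
  have hM : ∀ n, RGamma.IsSoft (A := R) (M.X n) := fun n => haveI := hKq n; isSoft_secR f (K.X n)
  haveI := RGamma.isIso_comp_of_soft I M hM
  let G := RGamma.gammaCx I M
  have hneg : ∀ q : ℤ, q < 0 → IsZero (M.X q) := fun q hq =>
    (secR f).map_isZero (K.isZero_of_isStrictlyGE 0 q hq)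
  let Ab := QCoh.toAbFun X
  let Z := LocCohZ.zq (X := X.carrier) (le_top : offZ f I ≤ ⊤)
  let J : ℕ → X.Modules := fun p => K.X (p : ℤ)
  let d : ∀ p : ℕ, Ab.obj (J p) ⟶ Ab.obj (J (p + 1)) := fun p => Ab.map (K.d (p : ℤ) ((p + 1 : ℕ) : ℤ))
  let e : F ⟶ K.X 0 := Ri.ι.f 0 ≫ (Ri.cochainComplexXIso 0 0 rfl).inv
  haveI : Mono e := mono_comp _ _
  have hde : e ≫ K.d 0 1 = 0 := by
    rw [Ri.cochainComplex_d 0 1 0 1 rfl rfl, Category.assoc, Iso.inv_hom_id_assoc, ← Category.assoc,
      Ri.ι_f_zero_comp_complex_d, zero_comp]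
  have hex₀ : (ShortComplex.mk e (K.d 0 1) hde).Exact := by
    refine (ShortComplex.exact_iff_of_iso (ShortComplex.isoMk (S₁ := ShortComplex.mk e (K.d 0 1) hde)
      (S₂ := ShortComplex.mk _ _ Ri.ι_f_zero_comp_complex_d) (Iso.refl _) (Ri.cochainComplexXIso 0 0 rfl)
      (Ri.cochainComplexXIso 1 1 rfl) ?_ ?_)).2
      (ShortComplex.exact_of_f_is_kernel (ShortComplex.mk _ _ Ri.ι_f_zero_comp_complex_d) Ri.isLimitKernelFork)
    · simp [e]
    · dsimp
      rw [Ri.cochainComplex_d 0 1 0 1 rfl rfl]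
      simp
  have hexK : ∀ p : ℕ, (ShortComplex.mk (K.d (p : ℤ) (p + 1 : ℤ)) (K.d (p + 1 : ℤ) (p + 1 + 1 : ℤ))
      (K.d_comp_d _ _ _)).Exact := fun p => by
    refine (ShortComplex.exact_iff_of_iso (ShortComplex.isoMk (Ri.cochainComplexXIso (p : ℤ) p rfl)
      (Ri.cochainComplexXIso (p + 1 : ℤ) (p + 1) (by omega)) (Ri.cochainComplexXIso (p + 1 + 1 : ℤ) (p + 1 + 1) (by omega))
      ?_ ?_)).2 (Ri.exact_succ p)
    · dsimp
      rw [Ri.cochainComplex_d (p : ℤ) (p + 1 : ℤ) p (p + 1) rfl (by omega)]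
      simp
    · dsimp
      rw [Ri.cochainComplex_d (p + 1 : ℤ) (p + 1 + 1 : ℤ) (p + 1) (p + 1 + 1) (by omega) (by omega)]
      simp
  haveI : PreservesFiniteLimits Ab := inferInstance
  haveI : PreservesFiniteColimits Ab := inferInstance
  have hJ : ∀ p i : ℕ, Subsingleton (Abelian.Ext.{u} Z (Ab.obj (J p)) (i + 1)) := fun p i =>
    haveI := Cohom.isFlasque_toAb_of_injective (J p)
    (Groth.Agent.S6023.result (Ab.obj (J p))).1 _ _ (le_top : offZ f I ≤ ⊤) (i + 1) i.succ_pos
  haveI : Mono (Ab.map e) := inferInstance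
  haveI : ∀ p : ℕ, (J p).IsQuasicoherent := fun p => hKq _
  obtain ⟨a⟩ := RGamma.nonempty_HD_equiv_HDI I (DerivedCategory.Q.obj M) (i : ℤ)
  let a' := ((RGamma.hdEquiv G (i : ℤ)).symm.trans
    ((RGamma.hdIso (asIso (RGamma.comp I M)) (i : ℤ)).trans a)).toAddEquiv
  let τ : ∀ p : ℕ, (Z ⟶ Ab.obj (J p)) ≃+ G.X (p : ℤ) := fun p => zTors f I (J p)
  obtain ⟨b⟩ := nonempty_ext_equiv_homology Z (fun p => Ab.obj (J p)) d (Ab.map e)
    (fun p => by rw [← Functor.map_comp, K.d_comp_d, Functor.map_zero])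
    (by rw [← Functor.map_comp]; exact (congrArg Ab.map hde).trans (Ab.map_zero _ _))
    (hex₀.map Ab) (fun p => (hexK p).map Ab) hJ G
    (ModuleCat.subsingleton_of_isZero ((DRing.gammaI I).map_isZero (hneg (-1) (by omega)))) τ
    (fun p φ => Subtype.ext (zTors_comp f I (K.d (p : ℤ) ((p + 1 : ℕ) : ℤ)) φ)) i
  exact ⟨AddEquiv.trans (show LocCohZ.HZM X F i (offZ f I) ≃+ G.homology (i : ℤ) from b) a'⟩

end GrothLib.GlobDual22
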