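import Groth.Agent.Lib.GlobDual22.Twist
import Groth.Agent.Lib.PullH25.Ext
import Groth.Agent.Lib.OX.TensorAssoc
import Groth.Agent.Lib.CurveMult.SurfCurveDeg

/-! Ext out of the dual of an invertible sheaf and cohomology of twists, naturally. -/

set_option autoImplicit false
set_option maxHeartbeats 1600000
set_option linter.style.haveILetI false
set_option backward.isDefEq.respectTransparency false

universe u

open CategoryTheory CategoryTheory.Limits AlgebraicGeometry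
open CategoryTheory.Abelian (Ext)

noncomputable section

namespace GrothLib.GlobDual22

variable {X : Scheme.{u}}

/-- The dual. -/
abbrev dualM (L : X.Modules) [DCoh.HasSheafHom L] : X.Modules := (DCoh.sheafHom L).obj (Coh.structureModule X)

theorem isInvertible_dualM {L : X.Modules} (hL : PicF.IsInvertible L) [DCoh.HasSheafHom L] :
    IsIso ((DCoh.sheafHomAdj L).counit.app (Coh.structureModule X)) ∧ PicF.IsInvertible (dualM L) := by
  haveI : ((DCoh.tensorBi (X := X)).obj L).IsEquivalence := CBExt28.isEquivalence_Tw hL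
  haveI := (DCoh.sheafHomAdj L).isEquivalence_right_of_isEquivalence_left
  haveI : IsIso ((DCoh.sheafHomAdj L).counit.app (Coh.structureModule X)) := inferInstance
  exact ⟨inferInstance, Seesaw26.isInvertible_of_tensor_iso
    (@asIso _ _ _ _ ((DCoh.sheafHomAdj L).counit.app (Coh.structureModule X)) this : CohB1.tensorMod L (dualM L) ≅ Coh.structureModule X) hL⟩

theorem tMap_comp {M M' M'' N N' N'' : X.Modules} (f : M ⟶ M') (f' : M' ⟶ M'') (g : N ⟶ N') (g' : N' ⟶ N'') :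
    OX.tMap f g ≫ OX.tMap f' g' = OX.tMap (f ≫ f') (g ≫ g') := by
  rw [OX.tMap, OX.tMap, OX.tMap, ← Functor.map_comp, MonoidalCategory.tensorHom_comp_tensorHom, Functor.map_comp,
    Functor.map_comp]

/-- The braiding. -/
abbrev brT (A B : X.Modules) : (CBExt28.Tw A).obj B ≅ (CBExt28.Tw B).obj A :=
  ((OX.tensorBraiding (X := X)).app B).app A

/-- The evaluation on the twist. -/
def etaT (L : X.Modules) [DCoh.HasSheafHom L] (ω : X.Modules) :
    (CBExt28.Tw (dualM L)).obj ((CBExt28.Tw L).obj ω) ⟶ ω :=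
  (OX.tensorAssoc (dualM L) L ω).inv ≫
    OX.tMap ((brT (dualM L) L).hom ≫ (DCoh.sheafHomAdj L).counit.app (Coh.structureModule X)) (𝟙 ω) ≫
      (OX.tensorUnitNatIso.app ω).hom

/-- The right unit. -/
def rhoT : (DCoh.tensorBi (X := X)).flip.obj (Coh.structureModule X) ≅ 𝟭 X.Modules :=
  (OX.tensorBraiding (X := X)).app (Coh.structureModule X) ≪≫ OX.tensorUnitNatIso

variable {L₁ L₂ : X.Modules} [DCoh.HasSheafHom L₁] [DCoh.HasSheafHom L₂] (a : L₁ ⟶ L₂)

/-- The transpose. -/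
abbrev transp : dualM L₂ ⟶ dualM L₁ :=
  (DCoh.sheafHomAdj L₁).homEquiv (dualM L₂) (Coh.structureModule X)
    ((DCoh.tensorBi.map a).app (dualM L₂) ≫ (DCoh.sheafHomAdj L₂).counit.app (Coh.structureModule X))

theorem transp_dinatural :
    (CBExt28.Tw L₁).map (transp a) ≫ (DCoh.sheafHomAdj L₁).counit.app (Coh.structureModule X) =
      (DCoh.tensorBi.map a).app (dualM L₂) ≫ (DCoh.sheafHomAdj L₂).counit.app (Coh.structureModule X) :=
  ((DCoh.sheafHomAdj L₁).homEquiv_counit (X := dualM L₂) (g := transp a)).symm.trans (Equiv.symm_apply_apply _ _)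

theorem br_nat {A A' B B' : X.Modules} (f : A ⟶ A') (g : B ⟶ B') :
    OX.tMap f g ≫ (brT A' B').hom = (brT A B).hom ≫ OX.tMap g f := by
  change DCoh.shP.map _ ≫ DCoh.shP.map _ = DCoh.shP.map _ ≫ DCoh.shP.map _
  rw [← Functor.map_comp, ← Functor.map_comp]
  exact congrArg DCoh.shP.map (BraidedCategory.braiding_naturality _ _)

theorem etaT_dinatural (ω : X.Modules) :
    (DCoh.tensorBi.map (transp a)).app ((CBExt28.Tw L₁).obj ω) ≫ etaT L₁ ω =
      (CBExt28.Tw (dualM L₂)).map ((DCoh.tensorBi.map a).app ω) ≫ etaT L₂ ω := by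
  let α := transp a
  let ev₁ := (brT (dualM L₁) L₁).hom ≫ (DCoh.sheafHomAdj L₁).counit.app (Coh.structureModule X)
  let ev₂ := (brT (dualM L₂) L₂).hom ≫ (DCoh.sheafHomAdj L₂).counit.app (Coh.structureModule X)
  have h0 : OX.tMap α (𝟙 L₁) ≫ ev₁ = OX.tMap (𝟙 (dualM L₂)) a ≫ ev₂ := by
    show OX.tMap α (𝟙 L₁) ≫ (brT _ _).hom ≫ _ = OX.tMap (𝟙 _) a ≫ (brT _ _).hom ≫ _
    rw [← Category.assoc, ← Category.assoc, br_nat, br_nat, Category.assoc, Category.assoc, ← OX.tMap_right,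
      ← OX.tMap_left]
    exact congrArg ((brT (dualM L₂) L₁).hom ≫ ·) (transp_dinatural a)
  rw [OX.tMap_left, OX.tMap_right, OX.tMap_left]
  show OX.tMap α (𝟙 _) ≫ (OX.tensorAssoc _ _ ω).inv ≫ OX.tMap ev₁ (𝟙 ω) ≫ _ =
    OX.tMap (𝟙 _) (OX.tMap a (𝟙 ω)) ≫ (OX.tensorAssoc _ _ ω).inv ≫ OX.tMap ev₂ (𝟙 ω) ≫ _
  have h1 : OX.tMap α (𝟙 ((CBExt28.Tw L₁).obj ω)) ≫ (OX.tensorAssoc (dualM L₁) L₁ ω).inv =
      (OX.tensorAssoc (dualM L₂) L₁ ω).inv ≫ OX.tMap (OX.tMap α (𝟙 L₁)) (𝟙 ω) := by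
    rw [Iso.eq_inv_comp, ← Category.assoc, Iso.comp_inv_eq, OX.tensorAssoc_natural, OX.tMap_id]
  have h2 : OX.tMap (𝟙 (dualM L₂)) (OX.tMap a (𝟙 ω)) ≫ (OX.tensorAssoc (dualM L₂) L₂ ω).inv =
      (OX.tensorAssoc (dualM L₂) L₁ ω).inv ≫ OX.tMap (OX.tMap (𝟙 (dualM L₂)) a) (𝟙 ω) := by
    rw [Iso.eq_inv_comp, ← Category.assoc, Iso.comp_inv_eq, OX.tensorAssoc_natural]
  rw [reassoc_of% h1, reassoc_of% h2, ← Category.assoc (OX.tMap (OX.tMap α (𝟙 L₁)) (𝟙 ω)),
    ← Category.assoc (OX.tMap (OX.tMap (𝟙 (dualM L₂)) a) (𝟙 ω)), tMap_comp, tMap_comp, h0]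

variable [HasExt.{u} X.Modules]

/-- From Ext out of `O` into the twist to Ext out of the dual. -/
def psiT (L : X.Modules) [DCoh.HasSheafHom L] (hL : PicF.IsInvertible L) (ω : X.Modules) (i : ℕ)
    (y : Ext (Coh.structureModule X) ((CBExt28.Tw L).obj ω) i) : Ext (dualM L) ω i :=
  haveI := CBExt28.isEquivalence_Tw (isInvertible_dualM hL).2
  (Ext.mk₀ (rhoT.inv.app (dualM L))).comp
    ((y.mapExactFunctor (CBExt28.Tw (dualM L))).comp (Ext.mk₀ (etaT L ω)) (add_zero i)) (zero_add i)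

theorem bijective_psiT (L : X.Modules) [DCoh.HasSheafHom L] (hL : PicF.IsInvertible L) (ω : X.Modules) (i : ℕ) :
    Function.Bijective (psiT L hL ω i) := by
  haveI := CBExt28.isEquivalence_Tw (isInvertible_dualM hL).2
  haveI := (isInvertible_dualM hL).1
  haveI : EnoughInjectives X.Modules := SheafCoh.enoughInjectives_sheafOfModules X.ringCatSheaf
  haveI : IsIso (OX.tMap ((brT (dualM L) L).hom ≫ (DCoh.sheafHomAdj L).counit.app (Coh.structureModule X)) (𝟙 ω)) := by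
    rw [← OX.tMap_left]; infer_instance
  haveI : IsIso (etaT L ω) := by unfold etaT; infer_instance
  let T := CBExt28.Tw (dualM L)
  have h1 := Functor.mapExt_bijective_of_preservesInjectiveObjects T (Coh.structureModule X) ((CBExt28.Tw L).obj ω) i
  have h2 := (((Abelian.extFunctorObj.{u} (T.obj (Coh.structureModule X)) i).mapIso (asIso (etaT L ω))).addCommGroupIsoToAddEquiv).bijective
  have h3 := (((Abelian.extFunctor.{u} i).mapIso (rhoT.app (dualM L)).symm.op).app ω).addCommGroupIsoToAddEquiv.bijective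
  exact (h3.comp h2).comp h1

theorem psiT_natural (hL₁ : PicF.IsInvertible L₁) (hL₂ : PicF.IsInvertible L₂) (ω : X.Modules) (i : ℕ)
    (y : Ext (Coh.structureModule X) ((CBExt28.Tw L₁).obj ω) i) :
    (Ext.mk₀ (transp a)).comp (psiT L₁ hL₁ ω i y) (zero_add i) =
      psiT L₂ hL₂ ω i (y.comp (Ext.mk₀ ((DCoh.tensorBi.map a).app ω)) (add_zero i)) := by
  haveI := CBExt28.isEquivalence_Tw (isInvertible_dualM hL₁).2
  haveI := CBExt28.isEquivalence_Tw (isInvertible_dualM hL₂).2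
  haveI : EnoughInjectives X.Modules := SheafCoh.enoughInjectives_sheafOfModules X.ringCatSheaf
  have hρ : transp a ≫ rhoT.inv.app (dualM L₁) =
      rhoT.inv.app (dualM L₂) ≫ (DCoh.tensorBi.map (transp a)).app (Coh.structureModule X) :=
    rhoT.inv.naturality (transp a)
  have hm := PullH25.mapExactFunctor_natTrans (F := CBExt28.Tw (dualM L₂)) (CBExt28.Tw (dualM L₁))
    (DCoh.tensorBi.map (transp a)) y
  unfold psiT
  rw [Ext.mk₀_comp_mk₀_assoc, hρ, ← Ext.mk₀_comp_mk₀_assoc, Ext.mapExactFunctor_comp, Ext.mapExactFunctor_mk₀]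
  congr 1
  rw [← Ext.comp_assoc_of_third_deg_zero, hm, Ext.comp_assoc_of_third_deg_zero, Ext.comp_assoc_of_third_deg_zero,
    Ext.mk₀_comp_mk₀, Ext.mk₀_comp_mk₀, etaT_dinatural]

theorem injective_HH_map_iff {k : Type u} [CommRing k] [X.Over (Spec (CommRingCat.of k))]
    (hL₁ : PicF.IsInvertible L₁) (hL₂ : PicF.IsInvertible L₂) (ω : X.Modules) (i : ℕ) :
    Function.Injective (Sheaf.H.map ((QCoh.toAbFun X).map (((DCoh.tensorBi (X := X)).obj ω).map a)) i) ↔
      Function.Injective (fun x : Ext (dualM L₁) ω i => (Ext.mk₀ (transp a)).comp x (zero_add i)) := by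
  let c : ∀ L : X.Modules, (CBExt28.Tw L).obj ω ≅ (CBExt28.Tw ω).obj L := fun L => brT L ω
  have hc : (DCoh.tensorBi.map a).app ω ≫ (c L₂).hom = (c L₁).hom ≫ (CBExt28.Tw ω).map a := by
    rw [OX.tMap_left, OX.tMap_right]; exact br_nat a (𝟙 ω)
  let T : ∀ L : X.Modules, Ext (Coh.structureModule X) ((CBExt28.Tw L).obj ω) i → Coh.HH X ((CBExt28.Tw ω).obj L) i :=
    fun L y => SerrePn27.toHH (k := k) _ i (y.comp (Ext.mk₀ (c L).hom) (add_zero i))
  have hT : ∀ L, Function.Bijective (T L) := fun L =>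
    (SerrePn27.bijective_toHH (k := k) i _).comp
      (((Abelian.extFunctorObj.{u} (Coh.structureModule X) i).mapIso (c L)).addCommGroupIsoToAddEquiv).bijective
  have e1 : (Sheaf.H.map ((QCoh.toAbFun X).map (((DCoh.tensorBi (X := X)).obj ω).map a)) i) ∘ T L₁ =
      T L₂ ∘ (fun y => y.comp (Ext.mk₀ ((DCoh.tensorBi.map a).app ω)) (add_zero i)) := funext fun y => by
    show Cohom.hhMap k ((CBExt28.Tw ω).map a) i (SerrePn27.toHH (k := k) _ i _) = SerrePn27.toHH (k := k) _ i _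
    rw [← SerrePn27.toHH_comp, Ext.comp_assoc_of_third_deg_zero, Ext.comp_assoc_of_third_deg_zero, Ext.mk₀_comp_mk₀,
      Ext.mk₀_comp_mk₀, hc]
  have e2 : (fun x : Ext (dualM L₁) ω i => (Ext.mk₀ (transp a)).comp x (zero_add i)) ∘ psiT L₁ hL₁ ω i =
      psiT L₂ hL₂ ω i ∘ (fun y => y.comp (Ext.mk₀ ((DCoh.tensorBi.map a).app ω)) (add_zero i)) :=
    funext fun y => psiT_natural a hL₁ hL₂ ω i y
  rw [← Function.Injective.of_comp_iff' _ (hT L₁), e1, (hT L₂).1.of_comp_iff,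
    ← (bijective_psiT L₂ hL₂ ω i).1.of_comp_iff, ← e2,
    Function.Injective.of_comp_iff' _ (bijective_psiT L₁ hL₁ ω i)]

end GrothLib.GlobDual22
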